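import Mathlib

/-!
Groups with the order and the element orders of `PSL(2, q)`, `q` odd: the three components of the
prime graph.
-/

set_option autoImplicit false
set_option linter.unusedSectionVars false

namespace Cfsg.Agent.Block.SpecPSL

/-- The hypothesis on the order and the element orders. -/
structure Hyp (G : Type*) [Group G] (p q m n : ℕ) : Prop where
  hp : p.Prime
  hp2 : p ≠ 2
  hq : ∃ f, q = p ^ f
  hsize : (q = 2 * m + 1 ∧ n = m + 1) ∨ (q + 1 = 2 * m ∧ n + 1 = m)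
  hm : Even m
  hq5 : 5 ≤ q
  hcard : Nat.card G = q * n * (2 * m)
  spec : ∀ x : G, orderOf x ∣ p ∨ orderOf x ∣ m ∨ orderOf x ∣ n
  exp : ∃ x : G, orderOf x = p
  exm : ∃ x : G, orderOf x = m
  exn : ∃ x : G, orderOf x = n

theorem mem_of_odd_of_index_two {G : Type*} [Group G] {B C : Subgroup G} (h : B.relIndex C = 2)
    {x : G} (hx : x ∈ C) (ho : Odd (orderOf x)) : x ∈ B := by
  have h1 := Subgroup.mul_self_mem_of_index_two h ⟨x, hx⟩
  rw [Subgroup.mem_subgroupOf, Subgroup.coe_mul] at h1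
  obtain ⟨j, hj⟩ := exists_pow_eq_self_of_coprime (x := x) (n := 2) (Nat.coprime_two_left.2 ho)
  rw [← hj, pow_two]
  exact pow_mem h1 j

theorem eq_of_involution_cyclic {G : Type*} [Group G] [Finite G] {B : Subgroup G} (hB : IsCyclic B)
    {a b : G} (ha : a ∈ B) (hb : b ∈ B) (ha2 : orderOf a = 2) (hb2 : orderOf b = 2) : a = b := by
  classical
  haveI := Fintype.ofFinite B
  have h := IsCyclic.card_orderOf_eq_totient (α := B) (d := 2)
    (by rw [← Nat.card_eq_fintype_card, ← ha2]; exact B.orderOf_dvd_natCard ha)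
  rw [Nat.totient_two] at h
  exact congrArg Subtype.val (Finset.card_le_one.mp h.le ⟨a, ha⟩
    (by simpa [Subgroup.orderOf_mk] using ha2) ⟨b, hb⟩ (by simpa [Subgroup.orderOf_mk] using hb2))

namespace Hyp

variable {G : Type*} [Group G] [Finite G] {p q m n : ℕ}

theorem m_pos (d : Hyp G p q m n) : 2 ≤ m := by
  obtain ⟨k, hk⟩ := d.hm
  have := d.hq5
  rcases d.hsize with h | h <;> omega

theorem two_dvd_m (d : Hyp G p q m n) : 2 ∣ m := d.hm.two_dvd

theorem n_odd (d : Hyp G p q m n) : Odd n := by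
  obtain ⟨k, hk⟩ := d.hm
  have := d.m_pos
  rcases d.hsize with h | h
  · exact ⟨k, by omega⟩
  · exact ⟨k - 1, by omega⟩

theorem n_three (d : Hyp G p q m n) : 3 ≤ n := by
  obtain ⟨k, hk⟩ := d.hm
  have := d.hq5
  rcases d.hsize with h | h <;> omega

theorem p_dvd_q (d : Hyp G p q m n) : p ∣ q := by
  obtain ⟨f, hf⟩ := d.hq
  have := d.hq5
  rcases f with _ | f
  · rw [pow_zero] at hf; omega
  · rw [hf]; exact dvd_pow_self p f.succ_ne_zero

theorem p_not_dvd_m (d : Hyp G p q m n) : ¬ p ∣ m := by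
  intro h
  have h1 := d.p_dvd_q
  refine d.hp.ne_one (Nat.dvd_one.1 ?_)
  have h2 : p ∣ 2 * m := h.mul_left 2
  rcases d.hsize with ⟨e, -⟩ | ⟨e, -⟩
  · rw [e] at h1; exact (Nat.dvd_add_right h2).1 h1
  · rw [← e] at h2; exact (Nat.dvd_add_right h1).1 h2

theorem p_not_dvd_n (d : Hyp G p q m n) : ¬ p ∣ n := by
  intro h
  have h1 := d.p_dvd_q
  refine d.hp.ne_one (Nat.dvd_one.1 ?_)
  have h2 : p ∣ 2 * n := h.mul_left 2
  rcases d.hsize with ⟨e, e'⟩ | ⟨e, e'⟩
  · rw [show 2 * n = q + 1 by omega] at h2; exact (Nat.dvd_add_right h1).1 h2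
  · rw [show q = 2 * n + 1 by omega] at h1; exact (Nat.dvd_add_right h2).1 h1

theorem cop_mn (d : Hyp G p q m n) : Nat.Coprime m n := by
  rcases d.hsize with ⟨-, e⟩ | ⟨-, e⟩
  · rw [e]; exact (Nat.coprime_self_add_right).2 (Nat.coprime_one_right m)
  · rw [← e]; exact (Nat.coprime_self_add_left).2 (Nat.coprime_one_left n)

theorem not_dvd_both (d : Hyp G p q m n) {r : ℕ} (hr : r.Prime) (h1 : r ∣ m) (h2 : r ∣ n) : False :=
  hr.ne_one (Nat.eq_one_of_dvd_coprimes d.cop_mn h1 h2)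

theorem prime_dvd_q (d : Hyp G p q m n) {r : ℕ} (hr : r.Prime) (h : r ∣ q) : r = p := by
  obtain ⟨f, hf⟩ := d.hq
  exact (Nat.prime_dvd_prime_iff_eq hr d.hp).1 (hr.dvd_of_dvd_pow (hf ▸ h))

theorem prime_dvd_card (d : Hyp G p q m n) {r : ℕ} (hr : r.Prime) (h : r ∣ Nat.card G) :
    r = p ∨ r ∣ m ∨ r ∣ n := by
  rw [d.hcard] at h
  rcases hr.dvd_mul.1 h with h1 | h1
  · rcases hr.dvd_mul.1 h1 with h2 | h2
    · exact Or.inl (d.prime_dvd_q hr h2)
    · exact Or.inr (Or.inr h2)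
  · rcases hr.dvd_mul.1 h1 with h2 | h2
    · exact Or.inr (Or.inl (((Nat.prime_dvd_prime_iff_eq hr Nat.prime_two).1 h2) ▸ d.two_dvd_m))
    · exact Or.inr (Or.inl h2)

theorem type_m (d : Hyp G p q m n) {x : G} {r : ℕ} (hr : r.Prime) (h : r ∣ orderOf x) (hm : r ∣ m) :
    orderOf x ∣ m := by
  rcases d.spec x with h1 | h1 | h1
  · exact absurd ((Nat.prime_dvd_prime_iff_eq hr d.hp).1 (h.trans h1) ▸ hm) d.p_not_dvd_m
  · exact h1
  · exact (d.not_dvd_both hr hm (h.trans h1)).elim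

theorem type_n (d : Hyp G p q m n) {x : G} {r : ℕ} (hr : r.Prime) (h : r ∣ orderOf x) (hn : r ∣ n) :
    orderOf x ∣ n := by
  rcases d.spec x with h1 | h1 | h1
  · exact absurd ((Nat.prime_dvd_prime_iff_eq hr d.hp).1 (h.trans h1) ▸ hn) d.p_not_dvd_n
  · exact (d.not_dvd_both hr (h.trans h1) hn).elim
  · exact h1

theorem type_p (d : Hyp G p q m n) {x : G} (h : p ∣ orderOf x) : orderOf x = p := by
  rcases d.spec x with h1 | h1 | h1
  · exact Nat.dvd_antisymm h1 h
  · exact absurd (h.trans h1) d.p_not_dvd_m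
  · exact absurd (h.trans h1) d.p_not_dvd_n

/-- Primes from different components do not meet in one element order. -/
theorem comp_iff (d : Hyp G p q m n) {x : G} {r s : ℕ} (hr : r.Prime) (hs : s.Prime)
    (h1 : r ∣ orderOf x) (h2 : s ∣ orderOf x) :
    (r = p → s = p) ∧ (r ∣ m → s ∣ m) ∧ (r ∣ n → s ∣ n) := by
  refine ⟨fun e => ?_, fun e => h2.trans (d.type_m hr h1 e), fun e => h2.trans (d.type_n hr h1 e)⟩
  subst e
  rw [d.type_p h1] at h2
  exact (Nat.prime_dvd_prime_iff_eq hs hr).1 h2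

/-- Commuting elements of prime order lie in one component. -/
theorem comp_commute (d : Hyp G p q m n) {x y : G} {r s : ℕ} (hr : r.Prime) (hs : s.Prime)
    (hx : orderOf x = r) (hy : orderOf y = s) (h : Commute x y) :
    (r = p → s = p) ∧ (r ∣ m → s ∣ m) ∧ (r ∣ n → s ∣ n) := by
  by_cases hrs : r = s
  · subst hrs; exact ⟨id, id, id⟩
  have ho : orderOf (x * y) = r * s := by
    rw [h.orderOf_mul_eq_mul_orderOf_of_coprime (by rw [hx, hy]; exact (Nat.coprime_primes hr hs).2 hrs),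
      hx, hy]
  exact d.comp_iff hr hs (x := x * y) (ho ▸ dvd_mul_right r s) (ho ▸ dvd_mul_left s r)

theorem exists_prime_order (x : G) {r : ℕ} (h : r ∣ orderOf x) :
    ∃ y ∈ Subgroup.zpowers x, orderOf y = r :=
  ⟨x ^ (orderOf x / r), Subgroup.npow_mem_zpowers x _,
    orderOf_pow_orderOf_div (orderOf_pos x).ne' h⟩

theorem comp_cent (d : Hyp G p q m n) {x : G} {r s : ℕ} (hr : r.Prime) (hs : s.Prime)
    (hx : r ∣ orderOf x) (h : s ∣ Nat.card (Subgroup.centralizer ({x} : Set G))) :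
    (r = p → s = p) ∧ (r ∣ m → s ∣ m) ∧ (r ∣ n → s ∣ n) := by
  haveI : Fact s.Prime := ⟨hs⟩
  obtain ⟨⟨y, hy⟩, hyo⟩ := exists_prime_orderOf_dvd_card' s h
  rw [Subgroup.orderOf_mk] at hyo
  obtain ⟨z, hz, hzo⟩ := exists_prime_order x hx
  have hc : Commute x y := (Subgroup.mem_centralizer_singleton_iff.1 hy).symm
  obtain ⟨i, rfl⟩ := hz
  exact d.comp_commute hr hs hzo hyo (hc.zpow_left i)

theorem card_cent_m (d : Hyp G p q m n) {x : G} (hx : x ≠ 1) (h : orderOf x ∣ m) :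
    Nat.card (Subgroup.centralizer ({x} : Set G)) ∣ 2 * m := by
  obtain ⟨r, hr, hrd⟩ := Nat.exists_prime_and_dvd (mt orderOf_eq_one_iff.1 hx)
  have h1 := Subgroup.card_subgroup_dvd_card (Subgroup.centralizer ({x} : Set G))
  rw [d.hcard] at h1
  refine Nat.Coprime.dvd_of_dvd_mul_left (Nat.coprime_of_dvd fun k hk hk1 hk2 => ?_) h1
  have hkm := (d.comp_cent hr hk hrd hk1).2.1 (hrd.trans h)
  rcases hk.dvd_mul.1 hk2 with h2 | h2
  · exact d.p_not_dvd_m (d.prime_dvd_q hk h2 ▸ hkm)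
  · exact d.not_dvd_both hk hkm h2

theorem card_cent_n (d : Hyp G p q m n) {x : G} (hx : x ≠ 1) (h : orderOf x ∣ n) :
    Nat.card (Subgroup.centralizer ({x} : Set G)) ∣ n := by
  obtain ⟨r, hr, hrd⟩ := Nat.exists_prime_and_dvd (mt orderOf_eq_one_iff.1 hx)
  have h1 := Subgroup.card_subgroup_dvd_card (Subgroup.centralizer ({x} : Set G))
  rw [d.hcard, show q * n * (2 * m) = q * (2 * m) * n by ring] at h1
  refine Nat.Coprime.dvd_of_dvd_mul_left (Nat.coprime_of_dvd fun k hk hk1 hk2 => ?_) h1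
  have hkn := (d.comp_cent hr hk hrd hk1).2.2 (hrd.trans h)
  rcases hk.dvd_mul.1 hk2 with h2 | h2
  · exact d.p_not_dvd_n (d.prime_dvd_q hk h2 ▸ hkn)
  · rcases hk.dvd_mul.1 h2 with h3 | h3
    · exact d.not_dvd_both hk ((Nat.prime_dvd_prime_iff_eq hk Nat.prime_two).1 h3 ▸ d.two_dvd_m) hkn
    · exact d.not_dvd_both hk h3 hkn

theorem cent_eq_n (d : Hyp G p q m n) {a x : G} (ha : orderOf a = n) (hx : x ∈ Subgroup.zpowers a)
    (hx1 : x ≠ 1) : Subgroup.centralizer ({x} : Set G) = Subgroup.zpowers a := by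
  obtain ⟨i, rfl⟩ := hx
  have hle : Subgroup.zpowers a ≤ Subgroup.centralizer ({a ^ i} : Set G) := by
    rw [Subgroup.zpowers_le, Subgroup.mem_centralizer_singleton_iff]
    exact ((Commute.refl a).zpow_right i).eq
  have hi : orderOf (a ^ i) ∣ n := ha ▸ orderOf_dvd_of_mem_zpowers ⟨i, rfl⟩
  refine (Subgroup.eq_of_le_of_card_ge hle ?_).symm
  rw [Nat.card_zpowers, ha]
  exact Nat.le_of_dvd (by have := d.n_three; omega) (d.card_cent_n hx1 hi)

theorem factorization_card (d : Hyp G p q m n) {r : ℕ} (hr : r.Prime) (hrm : r ∣ m) :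
    (Nat.card G).factorization r = (2 * m).factorization r := by
  have hq0 : q ≠ 0 := by have := d.hq5; omega
  have hn0 : n ≠ 0 := by have := d.n_three; omega
  have hm0 : 2 * m ≠ 0 := by have := d.m_pos; omega
  rw [d.hcard, Nat.factorization_mul (mul_ne_zero hq0 hn0) hm0,
    Nat.factorization_mul hq0 hn0, Finsupp.add_apply, Finsupp.add_apply,
    Nat.factorization_eq_zero_of_not_dvd (fun h => d.p_not_dvd_m (d.prime_dvd_q hr h ▸ hrm)),
    Nat.factorization_eq_zero_of_not_dvd (fun h => d.not_dvd_both hr hrm h), zero_add, zero_add]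

theorem factorization_card_n (d : Hyp G p q m n) {r : ℕ} (hr : r.Prime) (hrn : r ∣ n) :
    (Nat.card G).factorization r = n.factorization r := by
  have hq0 : q ≠ 0 := by have := d.hq5; omega
  have hn0 : n ≠ 0 := by have := d.n_three; omega
  have hm0 : 2 * m ≠ 0 := by have := d.m_pos; omega
  rw [d.hcard, Nat.factorization_mul (mul_ne_zero hq0 hn0) hm0,
    Nat.factorization_mul hq0 hn0, Finsupp.add_apply, Finsupp.add_apply,
    Nat.factorization_eq_zero_of_not_dvd (fun h => d.p_not_dvd_n (d.prime_dvd_q hr h ▸ hrn)),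
    Nat.factorization_eq_zero_of_not_dvd (n := 2 * m) (fun h => ?_), zero_add, add_zero]
  rcases hr.dvd_mul.1 h with h2 | h2
  · exact d.not_dvd_both hr ((Nat.prime_dvd_prime_iff_eq hr Nat.prime_two).1 h2 ▸ d.two_dvd_m) hrn
  · exact d.not_dvd_both hr h2 hrn

/-- The odd primes of the two tori have cyclic Sylow subgroups. -/
theorem exists_cyclic_sylow (d : Hyp G p q m n) {r : ℕ} [hr : Fact r.Prime]
    (h : (r ≠ 2 ∧ r ∣ m) ∨ r ∣ n) {a : G} (ha : orderOf a = if r ∣ m then m else n) :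
    ∃ R : Sylow r G, (R : Subgroup G) ≤ Subgroup.zpowers a ∧ IsCyclic (R : Subgroup G) := by
  set e := (Nat.card G).factorization r with he
  have hdvd : r ^ e ∣ orderOf a := by
    rw [ha]
    rcases h with ⟨h2, hm⟩ | hn
    · rw [if_pos hm]
      have h3 : r ^ e ∣ 2 * m := by
        rw [he, d.factorization_card hr.out hm]; exact Nat.ordProj_dvd _ _
      exact Nat.Coprime.dvd_of_dvd_mul_left (((Nat.coprime_primes hr.out Nat.prime_two).2 h2).pow_left e) h3
    · rw [if_neg (fun hm => d.not_dvd_both hr.out hm hn), he, d.factorization_card_n hr.out hn]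
      exact Nat.ordProj_dvd _ _
  have ho : orderOf (a ^ (orderOf a / r ^ e)) = r ^ e :=
    orderOf_pow_orderOf_div (orderOf_pos a).ne' hdvd
  refine ⟨Sylow.ofCard (Subgroup.zpowers (a ^ (orderOf a / r ^ e))) (by rw [Nat.card_zpowers, ho]), ?_, ?_⟩
  · rw [Sylow.coe_ofCard, Subgroup.zpowers_le]; exact Subgroup.npow_mem_zpowers a _
  · rw [Sylow.coe_ofCard]; infer_instance

theorem isCyclic_rgroup (d : Hyp G p q m n) {r : ℕ} [hr : Fact r.Prime]
    (h : (r ≠ 2 ∧ r ∣ m) ∨ r ∣ n) {K : Subgroup G} (hK : IsPGroup r K) : IsCyclic K := by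
  obtain ⟨a, ha⟩ : ∃ a : G, orderOf a = if r ∣ m then m else n := by
    split
    · exact d.exm
    · exact d.exn
  obtain ⟨R, -, hR⟩ := d.exists_cyclic_sylow h ha
  obtain ⟨P, hP⟩ := hK.exists_le_sylow
  haveI := hR
  haveI : IsCyclic (P : Subgroup G) := isCyclic_of_surjective (R.equiv P) (R.equiv P).surjective
  exact isCyclic_of_surjective (Subgroup.subgroupOfEquivOfLe hP).toMonoidHom
    (Subgroup.subgroupOfEquivOfLe hP).surjective

/-- The data of the involution `t` inside a cyclic group of order `m`. -/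
theorem torus_two (d : Hyp G p q m n) {g : G} (hg : orderOf g = m) :
    orderOf (g ^ (m / 2)) = 2 ∧
    Nat.card (Subgroup.centralizer ({g ^ (m / 2)} : Set G)) = 2 * m ∧
    Subgroup.zpowers g ≤ Subgroup.centralizer ({g ^ (m / 2)} : Set G) ∧
    (Subgroup.zpowers g).relIndex (Subgroup.centralizer ({g ^ (m / 2)} : Set G)) = 2 ∧
    ∃ S : Sylow 2 G, (S : Subgroup G) ≤ Subgroup.centralizer ({g ^ (m / 2)} : Set G) ∧
      (Subgroup.zpowers g ⊓ (S : Subgroup G)).relIndex (S : Subgroup G) = 2 := by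
  haveI : Fact (Nat.Prime 2) := ⟨Nat.prime_two⟩
  set t := g ^ (m / 2) with ht
  have hto : orderOf t = 2 := by
    have h := orderOf_pow_orderOf_div (orderOf_pos g).ne' (n := 2) (by rw [hg]; exact d.two_dvd_m)
    rwa [hg] at h
  have hle : Subgroup.zpowers g ≤ Subgroup.centralizer ({t} : Set G) := by
    rw [Subgroup.zpowers_le, Subgroup.mem_centralizer_singleton_iff, ht]
    exact ((Commute.refl g).pow_right _).eq
  set k := m.factorization 2 with hk
  set b := g ^ (m / 2 ^ k) with hb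
  have hbo : orderOf b = 2 ^ k := by
    have h := orderOf_pow_orderOf_div (orderOf_pos g).ne' (n := 2 ^ k) (by rw [hg]; exact Nat.ordProj_dvd m 2)
    rwa [hg] at h
  have hfac : (Nat.card G).factorization 2 = k + 1 := by
    rw [d.factorization_card Nat.prime_two d.two_dvd_m,
      Nat.factorization_mul (by norm_num) (by have := d.m_pos; omega), Finsupp.add_apply,
      Nat.Prime.factorization_self Nat.prime_two, add_comm]
  obtain ⟨S, hS⟩ := (IsPGroup.of_card (p := 2) (n := k) (G := Subgroup.zpowers b)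
    (by rw [Nat.card_zpowers, hbo])).exists_le_sylow
  have hScard : Nat.card (S : Subgroup G) = 2 ^ k * 2 := by
    rw [S.card_eq_multiplicity, hfac, pow_succ]
  have hi : (Subgroup.zpowers b).relIndex (S : Subgroup G) = 2 := by
    have h1 := Subgroup.card_mul_index ((Subgroup.zpowers b).subgroupOf (S : Subgroup G))
    rw [Nat.card_congr (Subgroup.subgroupOfEquivOfLe hS).toEquiv, Nat.card_zpowers, hbo, hScard] at h1
    exact Nat.eq_of_mul_eq_mul_left (by positivity) h1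
  have htb : t ∈ Subgroup.zpowers b := by
    have hk1 : 1 ≤ k := Nat.prime_two.factorization_pos_of_dvd (by have := d.m_pos; omega) d.two_dvd_m
    refine ⟨((2 ^ (k - 1) : ℕ) : ℤ), ?_⟩
    change b ^ ((2 ^ (k - 1) : ℕ) : ℤ) = t
    rw [zpow_natCast]
    refine eq_of_involution_cyclic (B := Subgroup.zpowers g) inferInstance
      (pow_mem (Subgroup.npow_mem_zpowers g _) _) (Subgroup.npow_mem_zpowers g _) ?_ hto
    rw [orderOf_pow' _ (by positivity), hbo, Nat.gcd_eq_right (pow_dvd_pow 2 (Nat.sub_le k 1)),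
      Nat.pow_div (Nat.sub_le k 1) (by norm_num), show k - (k - 1) = 1 by omega, pow_one]
  have hSC : (S : Subgroup G) ≤ Subgroup.centralizer ({t} : Set G) := by
    intro s hs
    rw [Subgroup.mem_centralizer_singleton_iff]
    haveI hn := Subgroup.normal_of_index_eq_two hi
    have h1 := hn.conj_mem ⟨t, hS htb⟩ htb ⟨s, hs⟩
    have h2 : s * t * s⁻¹ = t := eq_of_involution_cyclic (B := Subgroup.zpowers b) inferInstance
      h1 htb ((MulAut.conj s).orderOf_eq t ▸ hto) hto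
    exact mul_inv_eq_iff_eq_mul.1 h2
  have hdvd : Nat.card (Subgroup.centralizer ({t} : Set G)) ∣ 2 * m :=
    d.card_cent_m (fun e => by rw [e, orderOf_one] at hto; omega) (hto ▸ d.two_dvd_m)
  have h2 : 2 ^ (k + 1) ∣ Nat.card (Subgroup.centralizer ({t} : Set G)) := by
    rw [pow_succ, ← hScard]; exact Subgroup.card_dvd_of_le hSC
  have h1 : m ∣ Nat.card (Subgroup.centralizer ({t} : Set G)) := by
    rw [← hg, ← Nat.card_zpowers]; exact Subgroup.card_dvd_of_le hle
  have hcard : Nat.card (Subgroup.centralizer ({t} : Set G)) = 2 * m := by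
    obtain ⟨c, hc⟩ := h1
    have hc2 : c ∣ 2 := Nat.dvd_of_mul_dvd_mul_left (show 0 < m by have := d.m_pos; omega)
      (by rw [← hc, mul_comm m 2]; exact hdvd)
    rcases (Nat.dvd_prime Nat.prime_two).1 hc2 with rfl | rfl
    · exfalso
      rw [mul_one] at hc
      rw [hc] at h2
      exact Nat.pow_succ_factorization_not_dvd (by have := d.m_pos; omega) Nat.prime_two h2
    · rw [hc, mul_comm]
  refine ⟨hto, hcard, hle, ?_, S, hSC, ?_⟩
  · have h3 := Subgroup.card_mul_index ((Subgroup.zpowers g).subgroupOf (Subgroup.centralizer ({t} : Set G)))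
    rw [Nat.card_congr (Subgroup.subgroupOfEquivOfLe hle).toEquiv, Nat.card_zpowers, hg, hcard,
      mul_comm 2 m] at h3
    exact Nat.eq_of_mul_eq_mul_left (by have := d.m_pos; omega) h3
  · suffices he : Subgroup.zpowers g ⊓ (S : Subgroup G) = Subgroup.zpowers b by rw [he, hi]
    refine le_antisymm (fun x hx => ?_) (le_inf (Subgroup.zpowers_le.2 (Subgroup.npow_mem_zpowers g _)) hS)
    obtain ⟨hx1, hx2⟩ := Subgroup.mem_inf.1 hx
    obtain ⟨i, rfl⟩ := Subgroup.mem_zpowers_iff.1 hx1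
    obtain ⟨e, he⟩ := IsPGroup.iff_orderOf.1 S.isPGroup' ⟨g ^ i, hx2⟩
    rw [Subgroup.orderOf_mk] at he
    have hdiv : orderOf (g ^ i) ∣ 2 ^ k := by
      have h4 : 2 ^ e ∣ m := he ▸ hg ▸ orderOf_dvd_of_mem_zpowers ⟨i, rfl⟩
      rw [he]
      exact pow_dvd_pow 2 ((Nat.prime_two.pow_dvd_iff_le_factorization
        (by have := d.m_pos; omega)).1 h4)
    rw [orderOf_dvd_iff_pow_eq_one, ← zpow_natCast, ← zpow_mul, ← orderOf_dvd_iff_zpow_eq_one, hg] at hdiv
    have h5 : ((m / 2 ^ k : ℕ) : ℤ) ∣ i := by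
      have h6 : ((m / 2 ^ k : ℕ) : ℤ) * ((2 ^ k : ℕ) : ℤ) ∣ i * ((2 ^ k : ℕ) : ℤ) := by
        rw [← Nat.cast_mul, Nat.div_mul_cancel (Nat.ordProj_dvd m 2)]
        exact hdiv
      exact Int.dvd_of_mul_dvd_mul_right (by exact_mod_cast (pow_pos Nat.two_pos k).ne') h6
    obtain ⟨j, rfl⟩ := h5
    refine ⟨j, ?_⟩
    change b ^ j = _
    rw [hb, ← zpow_natCast, ← zpow_mul]

end Hyp

end Cfsg.Agent.Block.SpecPSL
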