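import Mathlib
import Cfsg.Prelude
import Cfsg.Agent.S0111
import Cfsg.Agent.S0215
import Cfsg.Agent.Lib.Block.SpecPSL.Basic
import Cfsg.Agent.Lib.Block.SpecPSL.Transfer

/-!
The Sylow two-subgroup of a simple normal subgroup is dihedral and the involution centraliser is
generalized dihedral.
-/

set_option autoImplicit false
set_option linter.unusedSectionVars false

open scoped Pointwise

namespace Cfsg.Agent.Block.SpecPSL

variable {G : Type*} [Group G] [Finite G] {p q m n : ℕ}

/-- The involution of the torus generated by `g`. -/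
abbrev inv2 (g : G) (m : ℕ) : G := g ^ (m / 2)

/-- The frame of a simple normal subgroup. -/
structure Setup (p q m n : ℕ) (M : Subgroup G) (g s : G) (T : Sylow 2 M) : Prop where
  hyp : Hyp G p q m n
  normal : M.Normal
  simple : IsSimpleGroup M
  nab : ¬ ∀ a b : M, a * b = b * a
  hg : orderOf g = m
  hTC : (T : Subgroup M).map M.subtype ≤ Subgroup.centralizer ({inv2 g m} : Set G)
  hs : s ∈ (T : Subgroup M).map M.subtype
  hsg : s ∉ Subgroup.zpowers g
  hso : orderOf s = 2
  hti : inv2 g m ∈ (T : Subgroup M).map M.subtype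
  hidx : (Subgroup.zpowers g ⊓ (T : Subgroup M).map M.subtype).relIndex ((T : Subgroup M).map M.subtype) = 2

theorem index_two_false [IsSimpleGroup G] (h : ¬ ∀ a b : G, a * b = b * a) (N : Subgroup G) (hn : N.Normal)
    (hi : N.index = 2) : False := by
  rcases hn.eq_bot_or_eq_top with e | e
  · rw [e, Subgroup.index_bot] at hi
    haveI : Fact (Nat.Prime 2) := ⟨Nat.prime_two⟩
    haveI := isCyclic_of_prime_card (α := G) hi
    exact h (fun a b => IsCyclic.commGroup.mul_comm a b)
  · rw [e, Subgroup.index_top] at hi; omega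

theorem Hyp.exists_setup (d : Hyp G p q m n) (M : Subgroup G) [hMn : M.Normal] [hMs : IsSimpleGroup M]
    (hnab : ¬ ∀ a b : M, a * b = b * a) (heven : 2 ∣ Nat.card M) :
    ∃ (g s : G) (T : Sylow 2 M), Setup p q m n M g s T := by
  classical
  haveI : Fact (Nat.Prime 2) := ⟨Nat.prime_two⟩
  obtain ⟨g, hg⟩ := d.exm
  obtain ⟨hto, -, hgC, -, S, hSC, hSi⟩ := d.torus_two hg
  set t := g ^ (m / 2) with ht
  have hS2 : IsPGroup 2 ((S : Subgroup G) ⊓ M : Subgroup G) := S.isPGroup'.to_le inf_le_left
  obtain ⟨T, hT⟩ := (hS2.comap_subtype (K := M)).exists_le_sylow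
  set T' := (T : Subgroup M).map M.subtype with hT'
  have hle : (S : Subgroup G) ⊓ M ≤ T' := by
    intro x hx
    exact ⟨⟨x, hx.2⟩, hT hx, rfl⟩
  obtain ⟨S', hS'⟩ := (T.isPGroup'.map M.subtype).exists_le_sylow
  obtain ⟨c, hc⟩ := MulAction.exists_smul_eq G S S'
  have hTeq : T' = (S : Subgroup G) ⊓ M := by
    refine (Subgroup.eq_of_le_of_card_ge hle ?_).symm
    have h1 : T' ≤ (S' : Subgroup G) ⊓ M := le_inf hS' (Subgroup.map_subtype_le _)
    have h2 : MulAut.conj c • ((S : Subgroup G) ⊓ M) = (S' : Subgroup G) ⊓ M := by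
      rw [Subgroup.smul_inf, ← hc, Sylow.coe_subgroup_smul, Subgroup.Normal.conj_smul_eq_self c M]
    refine (Nat.le_of_dvd Nat.card_pos (Subgroup.card_dvd_of_le h1)).trans (le_of_eq ?_)
    rw [← h2]
    exact Nat.card_congr (Subgroup.equivSMul (MulAut.conj c) _).symm.toEquiv
  have hnc : ¬ IsCyclic (T : Subgroup M) := by
    intro hcyc
    have hmin : (Nat.card M).minFac = 2 := (Nat.minFac_eq_two_iff _).2 heven
    have hcomp := hcyc.isComplement' hmin
    have hc := hcomp.card_mul
    rcases (MonoidHom.normal_ker (MonoidHom.transferSylow T (hcyc.normalizer_le_centralizer hmin))).eq_bot_or_eq_top with e | e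
    · rw [e, Subgroup.card_bot, one_mul] at hc
      have htop : (T : Subgroup M) = ⊤ := Subgroup.eq_top_of_card_eq _ hc
      refine hnab fun a b => ?_
      have h := (IsCyclic.commGroup (α := (T : Subgroup M))).mul_comm ⟨a, htop ▸ Subgroup.mem_top a⟩
        ⟨b, htop ▸ Subgroup.mem_top b⟩
      exact congrArg Subtype.val h
    · rw [e, Subgroup.card_top] at hc
      have h1 : Nat.card (T : Subgroup M) = 1 := mul_eq_left₀ Nat.card_pos.ne' |>.1 hc
      exact T.ne_bot_of_dvd_card heven (Subgroup.eq_bot_of_card_eq _ h1)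
  have hnc' : ¬ IsCyclic T' := fun h => hnc (isCyclic_of_surjective
    ((T : Subgroup M).equivMapOfInjective M.subtype M.subtype_injective).symm.toMonoidHom
    ((T : Subgroup M).equivMapOfInjective M.subtype M.subtype_injective).symm.surjective)
  have hTS : T' ≤ (S : Subgroup G) := hTeq.le.trans inf_le_left
  have hidx : (Subgroup.zpowers g ⊓ T').relIndex T' = 2 := by
    have h := Subgroup.relIndex_le_of_le_right (H := Subgroup.zpowers g ⊓ (S : Subgroup G)) hTS
      (by rw [hSi]; norm_num)
    rw [hSi, ← Subgroup.inf_relIndex_right, inf_assoc, inf_eq_right.2 hTS] at h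
    interval_cases hh : (Subgroup.zpowers g ⊓ T').relIndex T'
    · exact absurd hh Subgroup.index_ne_zero_of_finite
    · refine absurd ?_ hnc'
      have h1 : T' ≤ Subgroup.zpowers g := (Subgroup.relIndex_eq_one.1 hh).trans inf_le_left
      exact isCyclic_of_surjective (Subgroup.subgroupOfEquivOfLe h1).toMonoidHom
        (Subgroup.subgroupOfEquivOfLe h1).surjective
    · rfl
  have hti : t ∈ T' := by
    have hne : Subgroup.zpowers g ⊓ T' ≠ ⊥ := by
      intro e
      rw [e, Subgroup.relIndex_bot_left] at hidx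
      exact hnc' (isCyclic_of_prime_card (p := 2) hidx)
    obtain ⟨w, hw, hw1⟩ := (Subgroup.bot_or_exists_ne_one _).resolve_left hne
    obtain ⟨i, hi⟩ := IsPGroup.iff_orderOf.1 S.isPGroup' ⟨w, hTS hw.2⟩
    rw [Subgroup.orderOf_mk] at hi
    obtain ⟨v, hv, hvo⟩ := Hyp.exists_prime_order w (r := 2) (by
      rcases i with _ | i
      · exact absurd (orderOf_eq_one_iff.1 (by rw [hi, pow_zero])) hw1
      · rw [hi]; exact dvd_pow_self 2 i.succ_ne_zero)
    have hvm : v ∈ Subgroup.zpowers g ⊓ T' := Subgroup.zpowers_le.2 hw hv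
    rw [← eq_of_involution_cyclic (B := Subgroup.zpowers g) inferInstance hvm.1
      (show t ∈ Subgroup.zpowers g from Subgroup.npow_mem_zpowers g _) hvo hto]
    exact hvm.2
  have hTC : T' ≤ Subgroup.centralizer ({t} : Set G) := hTS.trans hSC
  obtain ⟨s, hs, hsg, hso⟩ : ∃ s ∈ T', s ∉ Subgroup.zpowers g ∧ orderOf s = 2 := by
    by_contra hno
    push Not at hno
    have htM : t ∈ M := Subgroup.map_subtype_le _ hti
    have huniq : ∀ x : M, x ∈ (T : Subgroup M) → orderOf x = 2 → (x : G) = t := by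
      intro x hx hxo
      rw [← Subgroup.orderOf_coe] at hxo
      by_contra hxt
      refine hno x ⟨x, hx, rfl⟩ (fun hxg => hxt ?_) hxo
      exact eq_of_involution_cyclic (B := Subgroup.zpowers g) inferInstance hxg
        (Subgroup.npow_mem_zpowers g _) hxo hto
    have htT : (⟨t, htM⟩ : M) ∈ (T : Subgroup M) := by
      obtain ⟨y, hy, hye⟩ := hti
      rwa [show (⟨t, htM⟩ : M) = y from Subtype.ext hye.symm]
    obtain ⟨N, hNn, hNodd, hN⟩ := Cfsg.Agent.S0215.result T ⟨t, htM⟩
      (by rw [Subgroup.orderOf_mk, hto]) htT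
      (fun h hh => Subtype.ext (huniq _ hh (by
        rw [← Subgroup.orderOf_coe]
        exact ((MulAut.conj (h : G)).orderOf_eq t).trans hto)))
    rcases hNn.eq_bot_or_eq_top with e | e
    · have hc : (⟨t, htM⟩ : M) ∈ Subgroup.center M := by
        rw [Subgroup.mem_center_iff]
        intro x
        have h := hN x
        rw [e, Subgroup.mem_bot] at h
        exact (mul_inv_eq_iff_eq_mul.1 (mul_inv_eq_one.1 h)).symm
      rcases (inferInstance : (Subgroup.center M).Normal).eq_bot_or_eq_top with e' | e'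
      · rw [e', Subgroup.mem_bot] at hc
        have : t = 1 := congrArg Subtype.val hc
        rw [this, orderOf_one] at hto; omega
      · exact hnab fun a b => (Subgroup.mem_center_iff.1 (e' ▸ Subgroup.mem_top b) a)
    · rw [e, Subgroup.card_top] at hNodd
      exact Nat.not_even_iff_odd.2 hNodd (even_iff_two_dvd.2 heven)
  exact ⟨g, s, T, ⟨d, hMn, hMs, hnab, hg, hTC, hs, hsg, hso, hti, hidx⟩⟩

theorem mul_mem_of_outside {B C : Subgroup G} (h : B.relIndex C = 2) {a b : G} (ha : a ∈ C)
    (haB : a ∉ B) (hb : b ∈ C) (hbB : b ∉ B) : a * b ∈ B :=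
  (Subgroup.mul_mem_iff_of_index_two h (a := ⟨a, ha⟩) (b := ⟨b, hb⟩)).2 (iff_of_false haB hbB)

theorem conj_mem_of_index_two {B C : Subgroup G} (hle : B ≤ C) (h : B.relIndex C = 2) {a b : G}
    (ha : a ∈ C) (hb : b ∈ B) : a * b * a⁻¹ ∈ B :=
  (Subgroup.normal_of_index_eq_two h).conj_mem ⟨b, hle hb⟩ hb ⟨a, ha⟩

theorem centralizer_conj (c x : G) :
    Subgroup.centralizer ({c * x * c⁻¹} : Set G) = MulAut.conj c • Subgroup.centralizer ({x} : Set G) := by
  ext y
  rw [Subgroup.mem_pointwise_smul_iff_inv_smul_mem, Subgroup.mem_centralizer_singleton_iff,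
    Subgroup.mem_centralizer_singleton_iff]
  simp only [MulAut.inv_def, MulAut.smul_def, MulAut.conj_symm_apply]
  constructor
  · intro h
    calc c⁻¹ * y * c * x = c⁻¹ * (y * (c * x * c⁻¹)) * c := by group
      _ = c⁻¹ * (c * x * c⁻¹ * y) * c := by rw [h]
      _ = _ := by group
  · intro h
    calc y * (c * x * c⁻¹) = c * (c⁻¹ * y * c * x) * c⁻¹ := by group
      _ = c * (x * (c⁻¹ * y * c)) * c⁻¹ := by rw [h]
      _ = _ := by group

namespace Setup

variable {M : Subgroup G} {g s : G} {T : Sylow 2 M}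

theorem t_order (D : Setup p q m n M g s T) : orderOf (inv2 g m) = 2 := (D.hyp.torus_two D.hg).1

theorem card_cent (D : Setup p q m n M g s T) :
    Nat.card (Subgroup.centralizer ({inv2 g m} : Set G)) = 2 * m := (D.hyp.torus_two D.hg).2.1

theorem g_cent (D : Setup p q m n M g s T) :
    Subgroup.zpowers g ≤ Subgroup.centralizer ({inv2 g m} : Set G) := (D.hyp.torus_two D.hg).2.2.1

theorem rel_cent (D : Setup p q m n M g s T) :
    (Subgroup.zpowers g).relIndex (Subgroup.centralizer ({inv2 g m} : Set G)) = 2 :=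
  (D.hyp.torus_two D.hg).2.2.2.1

theorem t_mem_M (D : Setup p q m n M g s T) : inv2 g m ∈ M := Subgroup.map_subtype_le _ D.hti

/-- All involutions of `M` are conjugate in `M`. -/
theorem conj_t (D : Setup p q m n M g s T) {x : G} (hx : x ∈ M) (hxo : orderOf x = 2) :
    ∃ h ∈ M, h * x * h⁻¹ = inv2 g m := by
  haveI : Fact (Nat.Prime 2) := ⟨Nat.prime_two⟩
  haveI := D.simple
  haveI := D.normal
  set T' := (T : Subgroup M).map M.subtype with hT'
  let Q : Subgroup M := (Subgroup.zpowers g ⊓ T').comap M.subtype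
  have hQT : Q ≤ (T : Subgroup M) := by
    intro y hy
    obtain ⟨z, hz, hze⟩ := (Subgroup.mem_comap.1 hy).2
    rwa [show y = z from Subtype.ext hze.symm]
  have hQi : Q.relIndex (T : Subgroup M) = 2 := by rw [Subgroup.relIndex_comap]; exact D.hidx
  obtain ⟨P, hP⟩ := (IsPGroup.of_card (p := 2) (n := 1) (G := Subgroup.zpowers (⟨x, hx⟩ : M))
    (by rw [Nat.card_zpowers, Subgroup.orderOf_mk, hxo, pow_one])).exists_le_sylow
  obtain ⟨c, hc⟩ := MulAction.exists_smul_eq M P T
  have hb : c * ⟨x, hx⟩ * c⁻¹ ∈ (T : Subgroup M) := by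
    rw [← hc, Sylow.coe_subgroup_smul]
    exact Subgroup.smul_mem_pointwise_smul _ (MulAut.conj c) _ (hP (Subgroup.mem_zpowers _))
  have hbo : orderOf (c * ⟨x, hx⟩ * c⁻¹) = 2 :=
    ((MulAut.conj c).orderOf_eq _).trans (by rw [Subgroup.orderOf_mk, hxo])
  have hfin : ∀ w : M, orderOf w = 2 → w ∈ Q → (w : G) = inv2 g m := fun w hw hwQ =>
    eq_of_involution_cyclic (B := Subgroup.zpowers g) inferInstance (Subgroup.mem_comap.1 hwQ).1
      (Subgroup.npow_mem_zpowers g _) (by rw [Subgroup.orderOf_coe]; exact hw) D.t_order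
  by_cases hbQ : c * ⟨x, hx⟩ * c⁻¹ ∈ Q
  · exact ⟨c, c.2, by have := hfin _ hbo hbQ; simpa using this⟩
  rcases Cfsg.Agent.S0111.result T Q hQT hQi _ hbo hb hbQ with ⟨N, hNn, hNi, -⟩ | ⟨e, he⟩
  · exact (index_two_false D.nab N hNn hNi).elim
  · refine ⟨(e * c : M), (e * c).2, ?_⟩
    have := hfin _ (((MulAut.conj e).orderOf_eq _).trans hbo) he
    rw [← this]
    simp only [MulAut.conj_apply]
    push_cast
    group

/-- The outside involutions of `M` in the centraliser invert the odd part of the torus. -/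
theorem inverts (D : Setup p q m n M g s T) {x : G}
    (hx : x ∈ Subgroup.centralizer ({inv2 g m} : Set G)) (hxM : x ∈ M) (hxg : x ∉ Subgroup.zpowers g)
    (hxo : orderOf x = 2) {b : G} (hb : b ∈ Subgroup.zpowers g) (hbodd : Odd (orderOf b)) :
    x * b * x⁻¹ = b⁻¹ := by
  classical
  haveI : Fact (Nat.Prime 2) := ⟨Nat.prime_two⟩
  have d := D.hyp
  set t := inv2 g m with ht
  set C := Subgroup.centralizer ({t} : Set G) with hC
  have hx2 : x * x = 1 := by rw [← pow_two, ← hxo, pow_orderOf_eq_one]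
  have hgc : ∀ a ∈ Subgroup.zpowers g, ∀ a' ∈ Subgroup.zpowers g, a * a' = a' * a := by
    rintro a ⟨i, rfl⟩ a' ⟨j, rfl⟩; exact ((Commute.refl g).zpow_zpow i j).eq
  have hdec : ∀ w ∈ C, w ∈ Subgroup.zpowers g ∨ x * w ∈ Subgroup.zpowers g := fun w hw =>
    or_iff_not_imp_left.2 fun h => mul_mem_of_outside D.rel_cent hx hxg hw h
  set z := b * (x * b * x⁻¹) with hz
  have hxb : x * b * x⁻¹ ∈ Subgroup.zpowers g := conj_mem_of_index_two D.g_cent D.rel_cent hx hb
  by_contra hne
  have hz1 : z ≠ 1 := fun e => hne (eq_inv_of_mul_eq_one_right e)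
  have hzg : z ∈ Subgroup.zpowers g := mul_mem hb hxb
  have hzodd : Odd (orderOf z) := by
    have ho : orderOf (x * b * x⁻¹) = orderOf b := (MulAut.conj x).orderOf_eq b
    exact ((hbodd.mul (ho.symm ▸ hbodd))).of_dvd_nat
      ((show Commute b (x * b * x⁻¹) from hgc b hb _ hxb).orderOf_mul_dvd_mul_orderOf)
  have hzx : x * z = z * x := by
    refine mul_inv_eq_iff_eq_mul.1 ?_
    rw [hz, inv_eq_of_mul_eq_one_right hx2] at *
    calc x * (b * (x * b * x)) * x = (x * b * x) * b * (x * x) := by group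
      _ = (x * b * x) * b := by rw [hx2, mul_one]
      _ = b * (x * b * x) := hgc _ hxb b hb
  have hzm : orderOf z ∣ m := D.hg ▸ orderOf_dvd_of_mem_zpowers hzg
  -- the three centralisers coincide
  have hzle : C ≤ Subgroup.centralizer ({z} : Set G) := by
    intro w hw
    rw [Subgroup.mem_centralizer_singleton_iff]
    rcases hdec w hw with h | h
    · exact hgc w h z hzg
    · have h1 := hgc _ h z hzg
      calc w * z = x⁻¹ * (x * w * z) := by group
        _ = x⁻¹ * (z * (x * w)) := by rw [h1]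
        _ = x⁻¹ * (z * x) * w := by group
        _ = x⁻¹ * (x * z) * w := by rw [hzx]
        _ = z * w := by group
  have hCz : C = Subgroup.centralizer ({z} : Set G) := by
    refine Subgroup.eq_of_le_of_card_ge hzle ?_
    rw [D.card_cent]
    exact Nat.le_of_dvd (by have := d.m_pos; omega) (d.card_cent_m hz1 hzm)
  obtain ⟨h, -, hh⟩ := D.conj_t hxM hxo
  set C' := Subgroup.centralizer ({x} : Set G) with hC'
  have hCC : C = MulAut.conj h • C' := by rw [hC, hC', show t = h * x * h⁻¹ from hh.symm, centralizer_conj]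
  have hCx : C' = C := by
    have hC'card : Nat.card C' = 2 * m := by
      rw [← D.card_cent, ← hC, hCC]
      exact Nat.card_congr (Subgroup.equivSMul (MulAut.conj h) C').toEquiv
    refine Subgroup.eq_of_le_of_card_ge ?_ (by rw [hC'card, hC, D.card_cent])
    -- the conjugate torus
    set g' := h⁻¹ * g * h with hg'
    have hmap : ∀ w, w ∈ C' ↔ h * w * h⁻¹ ∈ C := fun w => by
      rw [hCC, Subgroup.mem_pointwise_smul_iff_inv_smul_mem]
      simp [MulAut.conj_symm_apply, mul_assoc]
    have hmapg : ∀ w, h * w * h⁻¹ ∈ Subgroup.zpowers g → w ∈ Subgroup.zpowers g' := by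
      rintro w ⟨i, hi⟩
      refine ⟨i, ?_⟩
      change g ^ i = h * w * h⁻¹ at hi
      change g' ^ i = w
      have := conj_zpow (a := h⁻¹) (b := g) (i := i)
      rw [inv_inv] at this
      rw [hg', this, hi]; group
    have hzg' : z ∈ Subgroup.zpowers g' := hmapg z (mem_of_odd_of_index_two D.rel_cent
      ((hmap z).1 (Subgroup.mem_centralizer_singleton_iff.2 hzx.symm))
      (by rw [show orderOf (h * z * h⁻¹) = orderOf z from (MulAut.conj h).orderOf_eq z]; exact hzodd))
    have hg'c : ∀ a ∈ Subgroup.zpowers g', a * z = z * a := by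
      intro a ⟨i, hi⟩
      obtain ⟨j, hj⟩ := hzg'
      rw [← hi, ← hj]; exact ((Commute.refl g').zpow_zpow i j).eq
    have htx : inv2 g m ∈ C' := by
      rw [hC', Subgroup.mem_centralizer_singleton_iff]
      exact (Subgroup.mem_centralizer_singleton_iff.1 hx).symm
    have htg' : h * t * h⁻¹ ∉ Subgroup.zpowers g := by
      intro hbad
      have h1 : h * t * h⁻¹ = t := eq_of_involution_cyclic (B := Subgroup.zpowers g) inferInstance hbad
        (Subgroup.npow_mem_zpowers g _) (((MulAut.conj h).orderOf_eq t).trans D.t_order) D.t_order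
      refine hxg ?_
      have h2 : h * x * h⁻¹ = h * t * h⁻¹ := hh.trans h1.symm
      rw [mul_left_cancel (mul_right_cancel h2)]
      exact Subgroup.npow_mem_zpowers g _
    intro w hw
    rw [hCz, Subgroup.mem_centralizer_singleton_iff]
    by_cases hwg : h * w * h⁻¹ ∈ Subgroup.zpowers g
    · exact hg'c w (hmapg w hwg)
    · have h1 := mul_mem_of_outside D.rel_cent ((hmap t).1 htx) htg' ((hmap w).1 hw) hwg
      rw [show h * t * h⁻¹ * (h * w * h⁻¹) = h * (t * w) * h⁻¹ by group] at h1
      have h2 := hg'c _ (hmapg _ h1)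
      have htz : t * z = z * t := Subgroup.mem_centralizer_singleton_iff.1
        (hCz ▸ (Subgroup.mem_centralizer_singleton_iff.2 rfl : t ∈ C))
      calc w * z = t⁻¹ * (t * w * z) := by group
        _ = t⁻¹ * (z * (t * w)) := by rw [h2]
        _ = t⁻¹ * (z * t) * w := by group
        _ = t⁻¹ * (t * z) * w := by rw [htz]
        _ = z * w := by group
  -- the centraliser is abelian
  have hgx : ∀ a ∈ Subgroup.zpowers g, a * x = x * a := fun a ha => by
    have : a ∈ C' := hCx ▸ D.g_cent ha
    exact Subgroup.mem_centralizer_singleton_iff.1 this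
  have hab : ∀ a ∈ C, ∀ a' ∈ C, a * a' = a' * a := by
    have key : ∀ a ∈ C, ∀ a' ∈ Subgroup.zpowers g, a * a' = a' * a := by
      intro a ha a' ha'
      rcases hdec a ha with h1 | h1
      · exact hgc a h1 a' ha'
      · calc a * a' = x⁻¹ * (x * a * a') := by group
          _ = x⁻¹ * (a' * (x * a)) := by rw [hgc _ h1 a' ha']
          _ = x⁻¹ * (a' * x) * a := by group
          _ = x⁻¹ * (x * a') * a := by rw [hgx a' ha']
          _ = a' * a := by group
    intro a ha a' ha'
    rcases hdec a' ha' with h1 | h1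
    · exact key a ha a' h1
    · have hax : a * x = x * a := by
        have : a ∈ C' := hCx ▸ ha
        exact Subgroup.mem_centralizer_singleton_iff.1 this
      calc a * a' = a * x⁻¹ * (x * a') := by group
        _ = x⁻¹ * a * (x * a') := by
          rw [inv_eq_of_mul_eq_one_right hx2, hax]
        _ = x⁻¹ * (a * (x * a')) := by group
        _ = x⁻¹ * (x * a' * a) := by rw [key a ha _ h1]
        _ = a' * a := by group
  have hm2 : ¬ 4 ∣ m := by
    intro h4
    set w := g ^ (m / 4) with hw
    have hwg : w ∈ Subgroup.zpowers g := Subgroup.npow_mem_zpowers g _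
    have hwt : w * w = t := by
      rw [hw, ← pow_add, ht, inv2]
      congr 1
      obtain ⟨k, rfl⟩ := h4
      omega
    have hconj : h⁻¹ * w * h ∈ C := by
      rw [← hCx]
      have : MulAut.conj h • C' = C := hCC.symm
      have h1 : w ∈ MulAut.conj h • C' := this.symm ▸ D.g_cent hwg
      rw [Subgroup.mem_pointwise_smul_iff_inv_smul_mem] at h1
      simpa [MulAut.conj_symm_apply] using h1
    have hsq : (h⁻¹ * w * h) * (h⁻¹ * w * h) = x := by
      rw [show h⁻¹ * w * h * (h⁻¹ * w * h) = h⁻¹ * (w * w) * h by group, hwt,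
        show t = h * x * h⁻¹ from hh.symm]
      group
    refine hxg (hsq ▸ ?_)
    exact Subgroup.mul_self_mem_of_index_two D.rel_cent ⟨_, hconj⟩
  -- all involutions lie in `M` and are conjugate to `t`
  haveI := D.normal
  have hfac : (Nat.card G).factorization 2 = 2 := by
    have hm1 : m.factorization 2 = 1 := by
      refine le_antisymm ?_ (Nat.prime_two.factorization_pos_of_dvd (by have := d.m_pos; omega) d.two_dvd_m)
      by_contra h2
      exact hm2 (((Nat.prime_two.pow_dvd_iff_le_factorization (by have := d.m_pos; omega)).2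
        (by omega : 2 ≤ m.factorization 2)))
    rw [d.factorization_card Nat.prime_two d.two_dvd_m,
      Nat.factorization_mul (by norm_num) (by have := d.m_pos; omega), Finsupp.add_apply,
      Nat.Prime.factorization_self Nat.prime_two, hm1]
  have hinvM : ∀ y : G, orderOf y = 2 → y ∈ M := by
    intro y hy
    have h4 : 4 ∣ Nat.card M := by
      have hne : inv2 g m ≠ s := fun e => D.hsg (e ▸ Subgroup.npow_mem_zpowers g _)
      have h := Subgroup.card_mul_index ((Subgroup.zpowers g ⊓ (T : Subgroup M).map M.subtype).subgroupOf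
        ((T : Subgroup M).map M.subtype))
      rw [Nat.card_congr (Subgroup.subgroupOfEquivOfLe inf_le_right).toEquiv] at h
      have hi : ((Subgroup.zpowers g ⊓ (T : Subgroup M).map M.subtype).subgroupOf
        ((T : Subgroup M).map M.subtype)).index = 2 := D.hidx
      rw [hi] at h
      have h2 : 2 ∣ Nat.card ↥(Subgroup.zpowers g ⊓ (T : Subgroup M).map M.subtype) := by
        have := Subgroup.orderOf_dvd_natCard _ (show inv2 g m ∈ Subgroup.zpowers g ⊓
          (T : Subgroup M).map M.subtype from Subgroup.mem_inf.2 ⟨Subgroup.npow_mem_zpowers g _, D.hti⟩)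
        rwa [D.t_order] at this
      exact (show 4 ∣ Nat.card ↥((T : Subgroup M).map M.subtype) by
        rw [← h]; exact mul_dvd_mul h2 dvd_rfl).trans (Subgroup.card_dvd_of_le (Subgroup.map_subtype_le _))
    have hodd : ¬ 2 ∣ M.index := by
      intro h2
      have : 2 ^ 3 ∣ Nat.card G := by
        rw [← M.card_mul_index]; exact mul_dvd_mul h4 h2
      have := (Nat.prime_two.pow_dvd_iff_le_factorization Nat.card_pos.ne').1 this
      omega
    exact Transfer.mem_of_pow_mem (M.pow_index_mem y)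
      (hy ▸ Nat.prime_two.coprime_iff_not_dvd.2 hodd)
  have hcentral : ∀ y : G, orderOf y = 2 → (∀ a ∈ Subgroup.centralizer ({y} : Set G),
      ∀ a' ∈ Subgroup.centralizer ({y} : Set G), a * a' = a' * a) ∧
      Nat.card (Subgroup.centralizer ({y} : Set G)) = 2 * m ∧
      Nat.card {w : G // orderOf w = 2 ∧ w ∈ Subgroup.centralizer ({y} : Set G)} = 3 := by
    intro y hy
    obtain ⟨k, -, hk⟩ := D.conj_t (hinvM y hy) hy
    have hy' : y = k⁻¹ * t * k⁻¹⁻¹ := by rw [ht, ← hk]; group
    have hce : Subgroup.centralizer ({y} : Set G) = MulAut.conj k⁻¹ • C := by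
      rw [hy', centralizer_conj]
    refine ⟨fun a ha a' ha' => ?_, ?_, ?_⟩
    · rw [hce, Subgroup.mem_pointwise_smul_iff_inv_smul_mem] at ha ha'
      exact (MulAut.conj k⁻¹)⁻¹.injective (by rw [map_mul, map_mul]; exact hab _ ha _ ha')
    · rw [hce, ← D.card_cent]
      exact Nat.card_congr (Subgroup.equivSMul (MulAut.conj k⁻¹) C).symm.toEquiv
    · have hcount : Nat.card {w : G // orderOf w = 2 ∧ w ∈ C} = 3 := by
        have hset : {w : G | orderOf w = 2 ∧ w ∈ C} = ({t, x, x * t} : Set G) := by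
          ext w
          simp only [Set.mem_setOf_eq, Set.mem_insert_iff, Set.mem_singleton_iff]
          constructor
          · rintro ⟨hwo, hwC⟩
            have hw2 : w * w = 1 := by rw [← pow_two, ← hwo, pow_orderOf_eq_one]
            rcases hdec w hwC with h1 | h1
            · exact Or.inl (eq_of_involution_cyclic (B := Subgroup.zpowers g) inferInstance h1
                (Subgroup.npow_mem_zpowers g _) hwo D.t_order)
            · by_cases hw1 : x * w = 1
              · right; left
                rw [eq_inv_of_mul_eq_one_right hw1, inv_eq_of_mul_eq_one_right hx2]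
              · right; right
                have hsq : (x * w) * (x * w) = 1 := by
                  rw [show x * w * (x * w) = x * (w * x) * w by group, hab w hwC x hx,
                    show x * (x * w) * w = (x * x) * (w * w) by group, hx2, hw2, one_mul]
                have h3 : x * w = t := eq_of_involution_cyclic (B := Subgroup.zpowers g) inferInstance h1
                  (Subgroup.npow_mem_zpowers g _) (orderOf_eq_prime (by rw [pow_two, hsq]) hw1) D.t_order
                rw [← h3, ← mul_assoc, hx2, one_mul]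
          · have ht2 : t * t = 1 := by rw [← pow_two, ← D.t_order, pow_orderOf_eq_one]
            have htC : t ∈ C := Subgroup.mem_centralizer_singleton_iff.2 rfl
            rintro (rfl | rfl | rfl)
            · exact ⟨D.t_order, htC⟩
            · exact ⟨hxo, hx⟩
            · refine ⟨orderOf_eq_prime ?_ ?_, mul_mem hx htC⟩
              · rw [pow_two, show x * t * (x * t) = x * (t * x) * t by group, hab t htC x hx,
                  show x * (x * t) * t = (x * x) * (t * t) by group, hx2, ht2, one_mul]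
              · intro e
                refine hxg ?_
                rw [eq_inv_of_mul_eq_one_left e]
                exact inv_mem (Subgroup.npow_mem_zpowers g _)
        rw [show Nat.card {w : G // orderOf w = 2 ∧ w ∈ C} =
          ({w : G | orderOf w = 2 ∧ w ∈ C}).ncard from rfl, hset,
          Set.ncard_eq_three]
        refine ⟨t, x, x * t, ?_, ?_, ?_, rfl⟩
        · exact fun e => hxg (e ▸ Subgroup.npow_mem_zpowers g _)
        · intro e
          have h5 : x = 1 := right_eq_mul.1 e |> fun h => by simpa using h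
          rw [h5, orderOf_one] at hxo; omega
        · intro e
          have h5 : t = 1 := left_eq_mul.1 e
          have := D.t_order
          rw [← ht, h5, orderOf_one] at this; omega
      rw [← hcount]
      refine Nat.card_congr ((MulAut.conj k⁻¹).toEquiv.subtypeEquiv fun w => ?_).symm
      rw [hce]
      change _ ↔ orderOf ((MulAut.conj k⁻¹) w) = 2 ∧ (MulAut.conj k⁻¹) w ∈ _
      rw [(MulAut.conj k⁻¹).orderOf_eq w]
      refine and_congr_right fun _ => ?_
      exact (Subgroup.smul_mem_pointwise_smul_iff).symm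
  -- the free action on pairs of noncommuting involutions
  let I := {w : G // orderOf w = 2}
  let P := {v : I × I // ¬ Commute (v.1 : G) v.2}
  letI : MulAction G P :=
    { smul := fun c v => ⟨(⟨c * v.1.1 * c⁻¹, ((MulAut.conj c).orderOf_eq _).trans v.1.1.2⟩,
          ⟨c * v.1.2 * c⁻¹, ((MulAut.conj c).orderOf_eq _).trans v.1.2.2⟩), fun hc => v.2 (by
            have := hc.map (MulAut.conj c⁻¹).toMonoidHom
            simpa [mul_assoc] using this)⟩
      one_smul := fun v => Subtype.ext (Prod.ext (Subtype.ext (by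
          change 1 * (v.1.1 : G) * 1⁻¹ = _; group)) (Subtype.ext (by
          change 1 * (v.1.2 : G) * 1⁻¹ = _; group)))
      mul_smul := fun c c' v => Subtype.ext (Prod.ext (Subtype.ext (by
          change c * c' * (v.1.1 : G) * (c * c')⁻¹ = c * (c' * v.1.1 * c'⁻¹) * c⁻¹; group))
          (Subtype.ext (by change c * c' * (v.1.2 : G) * (c * c')⁻¹ = c * (c' * v.1.2 * c'⁻¹) * c⁻¹; group))) }
  have hfree : ∀ v : P, MulAction.stabilizer G v = ⊥ := by
    intro v
    by_contra hne'
    obtain ⟨w, hw, hw1⟩ := (Subgroup.bot_or_exists_ne_one _).resolve_left hne'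
    obtain ⟨r, hr, hrd⟩ := Nat.exists_prime_and_dvd (mt orderOf_eq_one_iff.1 hw1)
    obtain ⟨u, hu, huo⟩ := Hyp.exists_prime_order w hrd
    have hu' : u ∈ MulAction.stabilizer G v := Subgroup.zpowers_le.2 hw hu
    have e1 : u * (v.1.1 : G) * u⁻¹ = v.1.1 := congrArg (fun z : P => (z.1.1 : G)) hu'
    have e2 : u * (v.1.2 : G) * u⁻¹ = v.1.2 := congrArg (fun z : P => (z.1.2 : G)) hu'
    have h1 : (v.1.1 : G) * u = u * v.1.1 := (mul_inv_eq_iff_eq_mul.1 e1).symm
    have h2 : (v.1.2 : G) * u = u * v.1.2 := (mul_inv_eq_iff_eq_mul.1 e2).symm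
    obtain ⟨hab1, hcard1, -⟩ := hcentral _ v.1.1.2
    have hu1 : u ∈ Subgroup.centralizer ({(v.1.1 : G)} : Set G) :=
      Subgroup.mem_centralizer_singleton_iff.2 h1.symm
    have hv2 : (v.1.2 : G) ∈ Subgroup.centralizer ({u} : Set G) :=
      Subgroup.mem_centralizer_singleton_iff.2 h2
    have hv1 : (v.1.1 : G) ∈ Subgroup.centralizer ({u} : Set G) :=
      Subgroup.mem_centralizer_singleton_iff.2 h1
    have hu1' : u ≠ 1 := fun e => hr.ne_one (by rw [← huo, e, orderOf_one])
    by_cases hr2 : r = 2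
    · obtain ⟨hab2, -, -⟩ := hcentral u (huo.trans hr2)
      exact v.2 (hab2 _ hv1 _ hv2)
    have hsub : Subgroup.centralizer ({(v.1.1 : G)} : Set G) ≤ Subgroup.centralizer ({u} : Set G) :=
      fun a ha => Subgroup.mem_centralizer_singleton_iff.2 (hab1 a ha u hu1)
    have hrm : orderOf u ∣ m := d.type_m hr (huo ▸ dvd_rfl) (by
      have h := (huo ▸ Subgroup.orderOf_dvd_natCard _ hu1 : r ∣ _)
      rw [hcard1] at h
      exact (hr.dvd_mul.1 h).elim (fun e => absurd ((Nat.prime_dvd_prime_iff_eq hr Nat.prime_two).1 e) hr2) id)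
    have heq := Subgroup.eq_of_le_of_card_ge hsub (by
      rw [hcard1]; exact Nat.le_of_dvd (by have := d.m_pos; omega) (d.card_cent_m hu1' hrm))
    exact v.2 (hab1 _ (Subgroup.mem_centralizer_singleton_iff.2 rfl) _ (heq ▸ hv2))
  have hdvd : Nat.card G ∣ Nat.card P := by
    haveI := Fintype.ofFinite (Quotient (MulAction.orbitRel G P))
    rw [Nat.card_congr (MulAction.selfEquivSigmaOrbitsQuotientStabilizer G P), Nat.card_sigma]
    refine Finset.dvd_sum fun ω _ => ?_
    rw [← Subgroup.index_eq_card, hfree, Subgroup.index_bot]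
  have hI : Nat.card I = q * n := by
    have e : {w : G | orderOf w = 2} = {w : G | IsConj t w} := by
      ext w
      simp only [Set.mem_setOf_eq]
      constructor
      · intro hw
        obtain ⟨k, -, hk⟩ := D.conj_t (hinvM w hw) hw
        exact (isConj_iff.2 ⟨k, hk⟩).symm
      · intro hw
        obtain ⟨k, hk⟩ := isConj_iff.1 hw
        rw [← hk]; exact ((MulAut.conj k).orderOf_eq t).trans D.t_order
    have horb := (MulAction.stabilizer (ConjAct G) t).card_mul_index
    have hstab : Nat.card (MulAction.stabilizer (ConjAct G) t) = 2 * m := by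
      rw [ConjAct.stabilizer_eq_centralizer, ← D.card_cent]
      exact Nat.card_congr (ConjAct.ofConjAct.toEquiv.subtypeEquiv fun a => Iff.rfl)
    rw [hstab, MulAction.index_stabilizer, show Nat.card (ConjAct G) = Nat.card G from
      Nat.card_congr ConjAct.ofConjAct.toEquiv, d.hcard] at horb
    have horb' : MulAction.orbit (ConjAct G) t = {w : G | orderOf w = 2} := by
      rw [e]
      ext w
      rw [ConjAct.mem_orbit_conjAct, Set.mem_setOf_eq, isConj_comm]
    rw [horb', ← Nat.card_coe_set_eq, mul_comm] at horb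
    exact Nat.eq_of_mul_eq_mul_right (by have := d.m_pos; omega) horb
  have hP : Nat.card P + q * n * 3 = q * n * (q * n) := by
    haveI := Fintype.ofFinite G
    have h1 : Nat.card P + Nat.card {v : I × I // Commute (v.1 : G) v.2} = Nat.card (I × I) := by
      rw [add_comm, ← Nat.card_sum]
      exact Nat.card_congr (Equiv.sumCompl _)
    have h2 : Nat.card {v : I × I // Commute (v.1 : G) v.2} = Nat.card I * 3 := by
      have e : {v : I × I // Commute (v.1 : G) v.2} ≃
          Σ y : I, {w : G // orderOf w = 2 ∧ w ∈ Subgroup.centralizer ({(y : G)} : Set G)} :=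
        { toFun := fun v => ⟨v.1.1, v.1.2.1, v.1.2.2,
            Subgroup.mem_centralizer_singleton_iff.2 v.2.eq.symm⟩
          invFun := fun v => ⟨(v.1, ⟨v.2.1, v.2.2.1⟩),
            (Subgroup.mem_centralizer_singleton_iff.1 v.2.2.2).symm⟩
          left_inv := fun v => rfl
          right_inv := fun v => rfl }
      rw [Nat.card_congr e, Nat.card_sigma, Finset.sum_congr rfl fun y _ => (hcentral _ y.2).2.2,
        Finset.sum_const, Finset.card_univ, smul_eq_mul, Nat.card_eq_fintype_card]
    rw [Nat.card_prod, h2, hI] at h1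
    exact h1
  obtain ⟨k, hk⟩ := hdvd
  rw [hk, d.hcard] at hP
  have hqn : 0 < q * n := by have := d.hq5; have := d.n_three; positivity
  have heq : 2 * m * k + 3 = q * n := by
    have : q * n * (2 * m * k + 3) = q * n * (q * n) := by rw [← hP]; ring
    exact Nat.eq_of_mul_eq_mul_left hqn this
  have hmdvd : m ∣ 2 := by
    have hz' : (m : ℤ) ∣ (q : ℤ) * n - 3 := ⟨2 * k, by
      have := congrArg (Nat.cast : ℕ → ℤ) heq; push_cast at this; linarith⟩
    rcases d.hsize with ⟨e1, e2⟩ | ⟨e1, e2⟩
    · have : (m : ℤ) ∣ (-2 : ℤ) := by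
        rw [e1, e2] at hz'
        push_cast at hz'
        have h := (dvd_sub hz' (dvd_mul_right (m : ℤ) (2 * m + 3)))
        rwa [show (2 * (m : ℤ) + 1) * ((m : ℤ) + 1) - 3 - (m : ℤ) * (2 * m + 3) = -2 by ring] at h
      exact_mod_cast (dvd_neg.1 this)
    · have : (m : ℤ) ∣ (-2 : ℤ) := by
        rw [show (q : ℤ) = 2 * m - 1 by omega, show (n : ℤ) = m - 1 by omega] at hz'
        have h := (dvd_sub hz' (dvd_mul_right (m : ℤ) (2 * m - 3)))
        rwa [show (2 * (m : ℤ) - 1) * ((m : ℤ) - 1) - 3 - (m : ℤ) * (2 * m - 3) = -2 by ring] at h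
      exact_mod_cast (dvd_neg.1 this)
  have hzo : orderOf z = 1 :=
    ((Nat.dvd_prime Nat.prime_two).1 (hzm.trans hmdvd)).resolve_right fun e => by
      rw [e] at hzodd; exact absurd hzodd (by decide)
  exact hz1 (orderOf_eq_one_iff.1 hzo)

/-- The outside involution inverts the cyclic part of the Sylow subgroup. -/
theorem inverts_two (D : Setup p q m n M g s T) {u : G}
    (hu : Subgroup.zpowers u = Subgroup.zpowers g ⊓ (T : Subgroup M).map M.subtype) :
    s * u * s⁻¹ = u⁻¹ := by
  classical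
  haveI : Fact (Nat.Prime 2) := ⟨Nat.prime_two⟩
  haveI := D.simple
  set T' := (T : Subgroup M).map M.subtype with hT'
  set U := Subgroup.zpowers g ⊓ T' with hU
  set t := inv2 g m with ht
  by_contra hne
  have hs2 : s * s = 1 := by rw [← pow_two, ← D.hso, pow_orderOf_eq_one]
  have huU : u ∈ U := hu ▸ Subgroup.mem_zpowers u
  have hsU : s ∉ U := fun h => D.hsg h.1
  have hUT : U ≤ T' := inf_le_right
  have hT2 : IsPGroup 2 T' := T.isPGroup'.map M.subtype
  obtain ⟨j, hj⟩ := IsPGroup.iff_orderOf.1 hT2 ⟨u, hUT huU⟩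
  rw [Subgroup.orderOf_mk] at hj
  have htU : t ∈ U := ⟨Subgroup.npow_mem_zpowers g _, D.hti⟩
  have huniq : ∀ w ∈ U, orderOf w = 2 → w = t := fun w hw hwo =>
    eq_of_involution_cyclic (B := Subgroup.zpowers g) inferInstance hw.1 htU.1 hwo D.t_order
  have hj2 : 2 ≤ j := by
    by_contra h
    refine hne ?_
    interval_cases j
    · have hu1 : u = 1 := orderOf_eq_one_iff.1 (by rw [hj, pow_zero])
      rw [hu1]; simp
    · have hut : u = t := huniq u huU (by rw [hj, pow_one])
      have hst : s * t = t * s := Subgroup.mem_centralizer_singleton_iff.1 (D.hTC D.hs)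
      rw [hut, hst, mul_inv_cancel_right]
      exact (inv_eq_of_mul_eq_one_right (by rw [← pow_two, ← D.t_order, pow_orderOf_eq_one])).symm
  have hsu : ∀ w ∈ U, s * w * s⁻¹ ∈ U := fun w hw => conj_mem_of_index_two hUT D.hidx D.hs hw
  set D' := Subgroup.zpowers (u * u) ⊔ Subgroup.zpowers s with hD'
  have hnorm : Subgroup.zpowers s ≤ Subgroup.normalizer (Subgroup.zpowers (u * u) : Set G) := by
    refine (fun h => Subgroup.zpowers_le.2 (Subgroup.mem_normalizer_iff.2 fun w =>
      ⟨h w, fun hw => ?_⟩)) (fun w hw => ?_)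
    · have h1 := h _ hw
      rw [inv_eq_of_mul_eq_one_right hs2] at h1
      rwa [show s * (s * w * s) * s = (s * s) * w * (s * s) by group, hs2, one_mul, mul_one] at h1
    · obtain ⟨i, rfl⟩ := hw
      obtain ⟨e, he⟩ : s * u * s⁻¹ ∈ Subgroup.zpowers u := hu ▸ hsu u huU
      change u ^ e = s * u * s⁻¹ at he
      refine ⟨e * i, ?_⟩
      change (u * u) ^ (e * i) = s * (u * u) ^ i * s⁻¹
      rw [← conj_zpow, show s * (u * u) * s⁻¹ = (s * u * s⁻¹) * (s * u * s⁻¹) by group, ← he,
        zpow_mul, (Commute.refl u).mul_zpow]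
  have hDdec : ∀ w ∈ D', (∃ k : ℤ, w = (u * u) ^ k) ∨ ∃ k : ℤ, w = (u * u) ^ k * s := by
    intro w hw
    have h1 : w ∈ ((D' : Subgroup G) : Set G) := hw
    rw [hD', Subgroup.coe_mul_of_right_le_normalizer_left _ _ hnorm] at h1
    obtain ⟨a, ⟨k, rfl⟩, c, ⟨l, rfl⟩, rfl⟩ := h1
    rcases Int.even_or_odd' l with ⟨l', rfl | rfl⟩
    · exact Or.inl ⟨k, by simp [zpow_mul, zpow_two, pow_two, hs2]⟩
    · exact Or.inr ⟨k, by simp [zpow_add, zpow_mul, zpow_two, pow_two, hs2]⟩
  have hiff : ∀ e : ℤ, u ^ e ∈ D' ↔ (2 : ℤ) ∣ e := by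
    intro e
    refine ⟨fun h => ?_, fun ⟨k, hk⟩ => Subgroup.mem_sup_left ⟨k, ?_⟩⟩
    · rcases hDdec _ h with ⟨k, hk⟩ | ⟨k, hk⟩
      · rw [← pow_two, ← zpow_natCast, ← zpow_mul, zpow_eq_zpow_iff_modEq] at hk
        rw [hj, Int.modEq_iff_dvd] at hk
        have h2 : (2 : ℤ) ∣ ((2 ^ j : ℕ) : ℤ) := by
          exact_mod_cast dvd_pow_self 2 (show j ≠ 0 by omega)
        have := h2.trans hk
        have h3 : (2 : ℤ) ∣ (2 : ℕ) * k := ⟨k, by push_cast; ring⟩
        omega
      · exfalso
        refine hsU ?_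
        have : s = ((u * u) ^ k)⁻¹ * u ^ e := by rw [hk]; group
        rw [this]
        exact mul_mem (inv_mem (Subgroup.zpow_mem _ (mul_mem huU huU) k)) (Subgroup.zpow_mem _ huU e)
    · change (u * u) ^ k = u ^ e
      rw [hk, ← pow_two, ← zpow_natCast, ← zpow_mul]; rfl
  have hsD : s ∈ D' := Subgroup.mem_sup_right (Subgroup.mem_zpowers s)
  have hout : ∀ w ∈ T', w ∉ U → ∃ e : ℤ, w = u ^ e * s := by
    intro w hw hwU
    obtain ⟨e, he⟩ : w * s ∈ Subgroup.zpowers u := hu ▸ mul_mem_of_outside D.hidx hw hwU D.hs hsU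
    refine ⟨e, ?_⟩
    change u ^ e = w * s at he
    rw [he, mul_assoc, hs2, mul_one]
  have hodd_gen : ∀ e : ℤ, ¬ (2 : ℤ) ∣ e → u ∈ Subgroup.zpowers (u ^ e) := by
    intro e he
    have hc : IsCoprime e ((2 ^ j : ℕ) : ℤ) := by
      push_cast
      exact IsCoprime.pow_right ((Int.prime_two.coprime_iff_not_dvd).2 he).symm
    obtain ⟨a, c, hac⟩ := hc
    refine ⟨a, ?_⟩
    change (u ^ e) ^ a = u
    have h1 : u ^ ((2 ^ j : ℕ) : ℤ) = 1 := by rw [zpow_natCast, ← hj, pow_orderOf_eq_one]
    calc (u ^ e) ^ a = u ^ (e * a + ((2 ^ j : ℕ) : ℤ) * c) := by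
          rw [zpow_add, zpow_mul, zpow_mul u _ c, h1, one_zpow, mul_one]
      _ = u := by rw [mul_comm e a, mul_comm ((2 ^ j : ℕ) : ℤ) c, hac, zpow_one]
  -- index two in the Sylow subgroup
  let DM : Subgroup M := D'.comap M.subtype
  have hDi : DM.relIndex (T : Subgroup M) = 2 := by
    rw [Subgroup.relIndex_comap]
    change (D'.subgroupOf T').index = 2
    rw [Subgroup.index_eq_two_iff]
    refine ⟨⟨u, hUT huU⟩, fun w => ?_⟩
    simp only [Subgroup.mem_subgroupOf, Subgroup.coe_mul]
    have key : ∀ e : ℤ, ∀ c ∈ D', Xor (u ^ e * u * c ∈ D') (u ^ e * c ∈ D') := by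
      intro e c hc
      rw [D'.mul_mem_cancel_right hc, D'.mul_mem_cancel_right hc, ← zpow_add_one, hiff, hiff]
      by_cases he : (2 : ℤ) ∣ e
      · exact Or.inr ⟨he, by omega⟩
      · exact Or.inl ⟨by omega, he⟩
    by_cases hwU : (w : G) ∈ U
    · obtain ⟨e, he⟩ : (w : G) ∈ Subgroup.zpowers u := hu ▸ hwU
      change u ^ e = w at he
      rw [← he]
      simpa using key e 1 (one_mem _)
    · obtain ⟨e, he⟩ := hout w w.2 hwU
      obtain ⟨i, hi⟩ : s * u * s⁻¹ ∈ Subgroup.zpowers u := hu ▸ hsu u huU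
      change u ^ i = s * u * s⁻¹ at hi
      rw [he, show u ^ e * s * u = u ^ e * (s * u * s⁻¹) * s by group, ← hi, ← zpow_add,
        D'.mul_mem_cancel_right hsD, D'.mul_mem_cancel_right hsD, hiff, hiff]
      have hi2 : ¬ (2 : ℤ) ∣ i := by
        rintro ⟨k, rfl⟩
        have h2 : u ∈ D' := by
          have : s * u * s⁻¹ ∈ D' := hi ▸ (hiff _).2 ⟨k, rfl⟩
          have h3 := mul_mem (mul_mem (inv_mem hsD) this) hsD
          rwa [show s⁻¹ * (s * u * s⁻¹) * s = u by group] at h3
        have := (hiff 1).1 (by rwa [zpow_one])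
        omega
      by_cases he2 : (2 : ℤ) ∣ e
      · exact Or.inr ⟨he2, by omega⟩
      · exact Or.inl ⟨by omega, he2⟩
  have huM : u ∈ M := Subgroup.map_subtype_le _ (hUT huU)
  have huT : (⟨u, huM⟩ : M) ∈ (T : Subgroup M) := by
    obtain ⟨y, hy, hye⟩ := hUT huU
    rwa [show (⟨u, huM⟩ : M) = y from Subtype.ext hye.symm]
  -- conjugates of the two-power powers of `u`
  have key : ∀ (h : M) (i : ℕ), h⁻¹ * (⟨u, huM⟩ : M) ^ (2 ^ i) * h ∈ (T : Subgroup M) →
      ((h⁻¹ * (⟨u, huM⟩ : M) ^ (2 ^ i) * h ∈ DM) ↔ 1 ≤ i) := by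
    intro h i hmem
    set x : G := (h : G)⁻¹ * u ^ (2 ^ i) * h with hx
    have hxT : x ∈ T' := ⟨_, hmem, by simp [hx]⟩
    rw [Subgroup.mem_comap, show M.subtype (h⁻¹ * (⟨u, huM⟩ : M) ^ (2 ^ i) * h) = x by simp [hx]]
    set y := u ^ (2 ^ i) with hy
    have hxo : orderOf x = orderOf y := by
      have := (MulAut.conj (h : G)⁻¹).orderOf_eq y
      rwa [MulAut.conj_apply, inv_inv] at this
    by_cases hy1 : y = 1
    · have hx1 : x = 1 := by rw [hx, hy1, mul_one, inv_mul_cancel]
      rw [hx1]
      refine iff_of_true (one_mem _) ?_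
      by_contra hi
      have : i = 0 := by omega
      rw [hy, this, pow_zero, pow_one] at hy1
      rw [hy1, orderOf_one] at hj
      exact absurd hj (Nat.one_lt_pow (by omega) (by norm_num)).ne
    have hordy : orderOf y = 2 ^ (j - i) ∧ i < j := by
      have hij : i < j := by
        by_contra hh
        apply hy1
        rw [hy, ← orderOf_dvd_iff_pow_eq_one, hj]
        exact pow_dvd_pow 2 (by omega)
      refine ⟨?_, hij⟩
      rw [hy, orderOf_pow' _ (by positivity), hj, Nat.gcd_eq_right (pow_dvd_pow 2 hij.le),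
        Nat.pow_div hij.le (by norm_num)]
    obtain ⟨hyo, hij⟩ := hordy
    have hUx : x ∈ U → (x ∈ D' ↔ 1 ≤ i) := by
      intro hxU
      obtain ⟨e, he⟩ : x ∈ Subgroup.zpowers u := hu ▸ hxU
      change u ^ e = x at he
      rw [← he, hiff]
      constructor
      · rintro ⟨k, rfl⟩
        by_contra hi
        obtain ⟨j', rfl⟩ : ∃ j', j = j' + 1 := ⟨j - 1, by omega⟩
        have hi0 : i = 0 := by omega
        have h1 : orderOf x ∣ 2 ^ j' := by
          refine orderOf_dvd_of_pow_eq_one ?_
          rw [← he, ← zpow_natCast, ← zpow_mul,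
            show 2 * k * ((2 ^ j' : ℕ) : ℤ) = ((2 ^ (j' + 1) : ℕ) : ℤ) * k by push_cast; ring,
            zpow_mul, zpow_natCast, ← hj, pow_orderOf_eq_one, one_zpow]
        rw [hxo, hyo, hi0, Nat.sub_zero] at h1
        exact absurd ((Nat.pow_dvd_pow_iff_le_right (by norm_num)).1 h1) (by omega)
      · intro hi
        by_contra hodd
        have h1 : Subgroup.zpowers u ≤ Subgroup.zpowers x :=
          Subgroup.zpowers_le.2 (he ▸ hodd_gen e hodd)
        have h2 := Subgroup.card_dvd_of_le h1
        rw [Nat.card_zpowers, Nat.card_zpowers, hxo, hyo, hj] at h2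
        exact absurd ((Nat.pow_dvd_pow_iff_le_right (by norm_num)).1 h2) (by omega)
    by_cases hxU : x ∈ U
    · exact hUx hxU
    rcases Nat.eq_or_lt_of_le (show 1 ≤ j - i by omega) with h1 | h1
    · -- an outside involution
      obtain ⟨e, he⟩ := hout x hxT hxU
      have hxx : x * x = 1 := by
        rw [← pow_two, show 2 = orderOf x by rw [hxo, hyo, ← h1, pow_one], pow_orderOf_eq_one]
      have hinv : s * u ^ e * s⁻¹ = (u ^ e)⁻¹ := by
        rw [inv_eq_of_mul_eq_one_right hs2]
        rw [he] at hxx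
        exact eq_inv_of_mul_eq_one_right (by rw [← hxx]; group)
      by_cases he2 : (2 : ℤ) ∣ e
      · exact iff_of_true (by rw [he]; exact mul_mem ((hiff e).2 he2) hsD) (by omega)
      · exfalso
        obtain ⟨a, ha⟩ := hodd_gen e he2
        refine hne ?_
        change (u ^ e) ^ a = u at ha
        rw [← ha, ← conj_zpow, hinv, inv_zpow]
    · exfalso
      refine hxU ⟨?_, hxT⟩
      have hxxU : x * x ∈ U := Subgroup.mul_self_mem_of_index_two D.hidx ⟨x, hxT⟩
      have hyU : y ∈ U := Subgroup.pow_mem _ huU _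
      set k := 2 ^ (j - i - 1) with hk
      have hyk : y ^ k = t := by
        refine huniq _ (Subgroup.pow_mem _ hyU k) ?_
        rw [orderOf_pow' _ (by positivity), hyo, hk, Nat.gcd_eq_right (pow_dvd_pow 2 (Nat.sub_le _ 1)),
          Nat.pow_div (Nat.sub_le _ 1) (by norm_num), show j - i - (j - i - 1) = 1 by omega, pow_one]
      have hxk : x ^ k = (h : G)⁻¹ * t * h := by
        rw [hx, ← hyk]
        have := conj_pow (a := (h : G)⁻¹) (b := y) (i := k)
        rwa [inv_inv] at this
      have hxkU : x ^ k ∈ U := by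
        rw [show k = 2 * 2 ^ (j - i - 2) by rw [hk, ← pow_succ']; congr 1; omega, pow_mul, pow_two]
        exact Subgroup.pow_mem _ hxxU _
      have hxkt : (h : G)⁻¹ * t * h = t := by
        rw [← hxk]
        refine huniq _ hxkU ?_
        rw [hxk]
        have := (MulAut.conj (h : G)⁻¹).orderOf_eq t
        rw [MulAut.conj_apply, inv_inv] at this
        rw [this, D.t_order]
      have hhC : (h : G)⁻¹ ∈ Subgroup.centralizer ({t} : Set G) := by
        rw [Subgroup.mem_centralizer_singleton_iff]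
        calc (h : G)⁻¹ * t = ((h : G)⁻¹ * t * h) * (h : G)⁻¹ := by group
          _ = t * (h : G)⁻¹ := by rw [hxkt]
      have := conj_mem_of_index_two D.g_cent D.rel_cent hhC hyU.1
      rwa [inv_inv] at this
  obtain ⟨N, hN, hNi⟩ := exists_index_two T DM hDi ⟨u, huM⟩ huT
    (fun h hh hD => by
      have := (key h 0 (by rwa [pow_zero, pow_one])).1 (by rwa [pow_zero, pow_one])
      omega)
    (fun h i hi hh => (key h i hh).2 hi)
  exact index_two_false D.nab N hN hNi

end Setup

end Cfsg.Agent.Block.SpecPSL
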