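import Mathlib
import Cfsg.Prelude
import Cfsg.Agent.Lib.Grp.Cores
import Cfsg.Agent.Lib.Invol.Dihedral
import Cfsg.Agent.Lib.Block.BSWRec.Dihedral
import Cfsg.Agent.Lib.Block.SpecPSL.Structure

/-!
The simple normal subgroup is a projective special linear group.
-/

set_option autoImplicit false
set_option linter.unusedSectionVars false

open scoped Pointwise

namespace Cfsg.Agent.Block.SpecPSL

variable {G : Type*} [Group G] [Finite G] {p q m n : ℕ}

namespace Setup

variable {M : Subgroup G} {g s : G} {T : Sylow 2 M}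

/-- Elements outside the cyclic part of the Sylow subgroup are involutions. -/
theorem outside_order (D : Setup p q m n M g s T) {w : G} (hw : w ∈ (T : Subgroup M).map M.subtype)
    (hwg : w ∉ Subgroup.zpowers g) : orderOf w = 2 := by
  haveI : Fact (Nat.Prime 2) := ⟨Nat.prime_two⟩
  set T' := (T : Subgroup M).map M.subtype with hT'
  have hcyc : IsCyclic (Subgroup.zpowers g ⊓ T' : Subgroup G) :=
    isCyclic_of_surjective (Subgroup.subgroupOfEquivOfLe (inf_le_left : Subgroup.zpowers g ⊓ T' ≤ _)).toMonoidHom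
      (Subgroup.subgroupOfEquivOfLe (inf_le_left : Subgroup.zpowers g ⊓ T' ≤ _)).surjective
  obtain ⟨u, hu⟩ := Subgroup.isCyclic_iff_exists_zpowers_eq_top _ |>.1 hcyc
  have hinv := D.inverts_two hu
  have hs2 : s * s = 1 := by rw [← pow_two, ← D.hso, pow_orderOf_eq_one]
  have hws : w * s ∈ Subgroup.zpowers g ⊓ T' :=
    mul_mem_of_outside D.hidx hw (fun h => hwg h.1) D.hs (fun h => D.hsg h.1)
  rw [← hu] at hws
  obtain ⟨e, he⟩ := hws
  change u ^ e = w * s at he
  refine orderOf_eq_prime ?_ (fun h => hwg (h ▸ one_mem _))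
  have hwe : w = u ^ e * s := by rw [he, mul_assoc, hs2, mul_one]
  have hse : s * u ^ e * s⁻¹ = (u ^ e)⁻¹ := by rw [← conj_zpow, hinv, inv_zpow]
  rw [inv_eq_of_mul_eq_one_right hs2] at hse
  rw [pow_two, hwe, show u ^ e * s * (u ^ e * s) = u ^ e * (s * u ^ e * s) by group, hse, mul_inv_cancel]

/-- The cyclic part of the Sylow subgroup gives a dihedral structure. -/
theorem exists_dihedral (D : Setup p q m n M g s T) :
    ∃ k, 2 ≤ k ∧ k = Nat.card (Subgroup.zpowers g ⊓ (T : Subgroup M).map M.subtype : Subgroup G) ∧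
      Nonempty ((T : Subgroup M) ≃* DihedralGroup k) := by
  haveI : Fact (Nat.Prime 2) := ⟨Nat.prime_two⟩
  set T' := (T : Subgroup M).map M.subtype with hT'
  have hcyc : IsCyclic (Subgroup.zpowers g ⊓ T' : Subgroup G) :=
    isCyclic_of_surjective (Subgroup.subgroupOfEquivOfLe (inf_le_left : Subgroup.zpowers g ⊓ T' ≤ _)).toMonoidHom
      (Subgroup.subgroupOfEquivOfLe (inf_le_left : Subgroup.zpowers g ⊓ T' ≤ _)).surjective
  obtain ⟨u, hu⟩ := Subgroup.isCyclic_iff_exists_zpowers_eq_top _ |>.1 hcyc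
  have huU : u ∈ Subgroup.zpowers g ⊓ T' := hu ▸ Subgroup.mem_zpowers u
  have hsu : s * u ∈ T' := mul_mem D.hs huU.2
  have hsug : s * u ∉ Subgroup.zpowers g := fun h => D.hsg (by
    simpa using mul_mem h (inv_mem huU.1))
  have hs2 : s * s = 1 := by rw [← pow_two, ← D.hso, pow_orderOf_eq_one]
  have hprod : s * (s * u) = u := by rw [← mul_assoc, hs2, one_mul]
  have hk : orderOf u = Nat.card (Subgroup.zpowers g ⊓ T' : Subgroup G) := by
    rw [← hu, Nat.card_zpowers]
  have hcl : Subgroup.closure ({s, s * u} : Set G) = T' := by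
    refine le_antisymm ((Subgroup.closure_le _).2 ?_) fun w hw => ?_
    · rintro z (rfl | rfl)
      · exact D.hs
      · exact hsu
    have hscl : s ∈ Subgroup.closure ({s, s * u} : Set G) := Subgroup.subset_closure (by simp)
    have hucl : Subgroup.zpowers u ≤ Subgroup.closure ({s, s * u} : Set G) := by
      rw [Subgroup.zpowers_le]
      have h := mul_mem hscl (Subgroup.subset_closure (show s * u ∈ ({s, s * u} : Set G) by simp))
      rwa [hprod] at h
    by_cases hwg : w ∈ Subgroup.zpowers g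
    · exact hucl (hu ▸ Subgroup.mem_inf.2 ⟨hwg, hw⟩)
    · have h := mul_mem (hucl (hu ▸ mul_mem_of_outside D.hidx hw (fun h => hwg h.1) D.hs
        (fun h => D.hsg h.1))) hscl
      rwa [mul_assoc, hs2, mul_one] at h
  obtain ⟨e⟩ := Cfsg.Agent.Invol.nonempty_mulEquiv_dihedralGroup D.hso (D.outside_order hsu hsug)
  refine ⟨orderOf (s * (s * u)), ?_, by rw [hprod, hk],
    ⟨(((T : Subgroup M).equivMapOfInjective M.subtype M.subtype_injective).trans
      (MulEquiv.subgroupCongr hcl.symm)).trans e⟩⟩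
  rw [hprod, hk, ← D.t_order]
  exact Nat.le_of_dvd Nat.card_pos (Subgroup.orderOf_dvd_natCard _
    (Subgroup.mem_inf.2 ⟨Subgroup.npow_mem_zpowers g _, D.hti⟩))

/-- The simple normal subgroup is a projective special linear group in odd characteristic. -/
theorem iso_psl (D : Setup p q m n M g s T) :
    ∃ (F : Type) (_ : Field F) (_ : Fintype F), Odd (Fintype.card F) ∧
      Nonempty (↥M ≃* Matrix.ProjectiveSpecialLinearGroup (Fin 2) F) := by
  classical
  haveI : Fact (Nat.Prime 2) := ⟨Nat.prime_two⟩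
  haveI := D.simple
  haveI := D.normal
  have d := D.hyp
  set T' := (T : Subgroup M).map M.subtype with hT'
  obtain ⟨k, hk2, -, hdi⟩ := D.exists_dihedral
  set t := inv2 g m with ht
  let tM : M := ⟨t, D.t_mem_M⟩
  set CM := Subgroup.centralizer ({tM} : Set M) with hCM
  have hCmem : ∀ w : M, w ∈ CM ↔ (w : G) ∈ Subgroup.centralizer ({t} : Set G) := fun w => by
    rw [hCM, Subgroup.mem_centralizer_singleton_iff, Subgroup.mem_centralizer_singleton_iff,
      Subtype.ext_iff]
    rfl
  have hTmem : ∀ w : M, w ∈ (T : Subgroup M) ↔ (w : G) ∈ T' := fun w => by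
    refine ⟨fun h => ⟨w, h, rfl⟩, ?_⟩
    rintro ⟨y, hy, hye⟩
    rwa [show w = y from Subtype.ext hye.symm]
  set O := (Cfsg.oddCore CM).map CM.subtype with hO
  have hOodd : ∀ y ∈ O, Odd (orderOf (y : G)) := by
    intro y hy
    have h1 : Odd (Nat.card O) := by
      rw [hO, Subgroup.card_map_of_injective CM.subtype_injective]
      exact Nat.coprime_two_right.1 Grp.pPrimeCore_coprime
    rw [Subgroup.orderOf_coe]
    exact h1.of_dvd_nat (O.orderOf_dvd_natCard hy)
  have hOg : ∀ y ∈ O, (y : G) ∈ Subgroup.zpowers g := fun y hy =>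
    mem_of_odd_of_index_two D.rel_cent ((hCmem y).1 (hO ▸ Subgroup.map_subtype_le _ <| hy)) (hOodd y hy)
  have hgc : ∀ a ∈ Subgroup.zpowers g, ∀ a' ∈ Subgroup.zpowers g, a * a' = a' * a := by
    rintro a ⟨i, rfl⟩ a' ⟨j, rfl⟩; exact ((Commute.refl g).zpow_zpow i j).eq
  have hinv : ∀ w : M, w ∈ (T : Subgroup M) → (w : G) ∉ Subgroup.zpowers g → ∀ y ∈ O,
      w * y * w⁻¹ = y⁻¹ := by
    intro w hw hwg y hy
    refine Subtype.ext ?_
    have := D.inverts (D.hTC ((hTmem w).1 hw)) w.2 hwg (D.outside_order ((hTmem w).1 hw) hwg) (hOg y hy)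
      (hOodd y hy)
    simpa using this
  have hcentO : ∀ w : M, (w : G) ∈ Subgroup.zpowers g → w ∈ Subgroup.centralizer (O : Set M) :=
    fun w hw => Subgroup.mem_centralizer_iff.2 fun y hy => Subtype.ext (hgc _ (hOg y hy) _ hw)
  -- centralisers of nontrivial elements of the odd core
  have hcy : ∀ y ∈ O, y ≠ 1 → Subgroup.centralizer ({(y : G)} : Set G) = Subgroup.zpowers g := by
    intro y hy hy1
    have hy1' : (y : G) ≠ 1 := fun e => hy1 (Subtype.ext e)
    have hle : Subgroup.zpowers g ≤ Subgroup.centralizer ({(y : G)} : Set G) := fun a ha =>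
      Subgroup.mem_centralizer_singleton_iff.2 (hgc a ha _ (hOg y hy))
    have hdvd := d.card_cent_m hy1' (D.hg ▸ orderOf_dvd_of_mem_zpowers (hOg y hy))
    set r := (Subgroup.zpowers g).relIndex (Subgroup.centralizer ({(y : G)} : Set G)) with hr
    have hmul : m * r = Nat.card (Subgroup.centralizer ({(y : G)} : Set G)) := by
      rw [hr, Subgroup.relIndex, ← Subgroup.card_mul_index ((Subgroup.zpowers g).subgroupOf
        (Subgroup.centralizer ({(y : G)} : Set G))),
        Nat.card_congr (Subgroup.subgroupOfEquivOfLe hle).toEquiv, Nat.card_zpowers, D.hg]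
    rw [← hmul, mul_comm 2 m] at hdvd
    rcases (Nat.dvd_prime Nat.prime_two).1 (Nat.dvd_of_mul_dvd_mul_left
      (by have := d.m_pos; omega) hdvd) with h | h
    · exact le_antisymm (Subgroup.relIndex_eq_one.1 h) hle
    exfalso
    have hfix : Subgroup.centralizer ({(y : G)} : Set G) ≤ Subgroup.centralizer ({t} : Set G) := by
      intro w hw
      rw [Subgroup.mem_centralizer_singleton_iff]
      exact mul_inv_eq_iff_eq_mul.1 (eq_of_involution_cyclic (B := Subgroup.zpowers g) inferInstance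
        (conj_mem_of_index_two hle h hw (Subgroup.npow_mem_zpowers g _))
        (Subgroup.npow_mem_zpowers g _) (((MulAut.conj w).orderOf_eq t).trans D.t_order) D.t_order)
    have heq := Subgroup.eq_of_le_of_card_ge hfix (by rw [← hmul, h, D.card_cent, mul_comm])
    have hsy : s * (y : G) = y * s :=
      Subgroup.mem_centralizer_singleton_iff.1 (heq.symm ▸ D.hTC D.hs)
    have hsinv := D.inverts (D.hTC D.hs) (Subgroup.map_subtype_le _ D.hs) D.hsg D.hso (hOg y hy)
      (hOodd y hy)
    rw [hsy, mul_inv_cancel_right] at hsinv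
    have h2 : orderOf (y : G) ∣ 2 := orderOf_dvd_of_pow_eq_one (by
      rw [pow_two]; nth_rewrite 2 [hsinv]; rw [mul_inv_cancel])
    rcases (Nat.dvd_prime Nat.prime_two).1 h2 with e | e
    · exact hy1' (orderOf_eq_one_iff.1 e)
    · exact absurd (hOodd y hy) (by rw [e]; decide)
  refine Cfsg.Agent.Block.BSWRec.iso_psl_of_dihedral T k hk2 hdi tM (by rw [Subgroup.orderOf_mk, D.t_order])
    ((hTmem tM).2 D.hti) (fun w hw => ?_) O hO ?_ ?_ ?_
  · exact Subtype.ext (Subgroup.mem_centralizer_singleton_iff.1 (D.hTC ((hTmem w).1 hw)))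
  · intro hOne
    obtain ⟨y, hy, hy1⟩ := (Subgroup.bot_or_exists_ne_one _).resolve_left hOne
    have hQ : (T : Subgroup M) ⊓ Subgroup.centralizer (O : Set M) =
        (Subgroup.zpowers g ⊓ T').comap M.subtype := by
      ext w
      simp only [Subgroup.mem_inf, Subgroup.mem_comap, Subgroup.coe_subtype]
      refine ⟨fun h => ⟨?_, (hTmem w).1 h.1⟩, fun h => ⟨(hTmem w).2 h.2, hcentO w h.1⟩⟩
      by_contra hwg
      have h1 := hinv w h.1 hwg y hy
      rw [← Subgroup.mem_centralizer_iff.1 h.2 y hy, mul_inv_cancel_right] at h1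
      have h2 : orderOf y ∣ 2 := orderOf_dvd_of_pow_eq_one (by
        rw [pow_two]; nth_rewrite 2 [h1]; rw [mul_inv_cancel])
      rcases (Nat.dvd_prime Nat.prime_two).1 h2 with e | e
      · exact hy1 (orderOf_eq_one_iff.1 e)
      · exact absurd (hOodd y hy) (by rw [Subgroup.orderOf_coe, e]; decide)
    refine ⟨?_, ?_⟩
    · refine isCyclic_of_injective ((M.subtype.comp ((T : Subgroup M) ⊓ Subgroup.centralizer (O : Set M)).subtype).codRestrict
        (Subgroup.zpowers g) fun w => ?_) ?_
      · exact (hQ ▸ w.2 : (w : M) ∈ (Subgroup.zpowers g ⊓ T').comap M.subtype).1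
      · intro a b h
        exact Subtype.ext (Subtype.ext (congrArg (fun z : Subgroup.zpowers g => (z : G)) h))
    · rw [hQ, Subgroup.relIndex_comap]; exact D.hidx
  · intro w hw hwO y hy
    exact hinv w hw (fun h => hwO (hcentO w h)) y hy
  · intro Y hYO hY1 w hw
    obtain ⟨y, hy, hy1⟩ := (Subgroup.bot_or_exists_ne_one _).resolve_left hY1
    rw [hCmem, Subgroup.mem_centralizer_singleton_iff]
    have hy' : w * y * w⁻¹ ∈ Y := (Subgroup.mem_normalizer_iff.1 hw y).1 hy
    have hne : w * y * w⁻¹ ≠ 1 := fun e => hy1 (conj_eq_one_iff.1 e)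
    have hmem : (w : G) * t * (w : G)⁻¹ ∈ Subgroup.centralizer ({((w * y * w⁻¹ : M) : G)} : Set G) := by
      rw [Subgroup.mem_centralizer_singleton_iff]
      push_cast
      have h1 : t * (y : G) = y * t := hgc _ (Subgroup.npow_mem_zpowers g _) _ (hOg y (hYO hy))
      calc (w : G) * t * (w : G)⁻¹ * (w * y * (w : G)⁻¹) = w * (t * y) * (w : G)⁻¹ := by group
        _ = w * (y * t) * (w : G)⁻¹ := by rw [h1]
        _ = _ := by group
    rw [hcy _ (hYO hy') hne] at hmem
    exact mul_inv_eq_iff_eq_mul.1 (eq_of_involution_cyclic (B := Subgroup.zpowers g) inferInstance hmem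
      (Subgroup.npow_mem_zpowers g _) (((MulAut.conj (w : G)).orderOf_eq t).trans D.t_order) D.t_order)

end Setup

end Cfsg.Agent.Block.SpecPSL
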