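import Mathlib
import Cfsg.Prelude
import Cfsg.Agent.S0727
import Cfsg.Agent.S1226
import Cfsg.Agent.S1227
import Cfsg.Agent.Lib.Invol.StronglyEmbeddedCount
import Cfsg.Agent.Lib.Block.SmallPSL.Recognize

/-!
Recognition of `PSL(2, 2 ^ f)` by order and element orders.
-/

set_option autoImplicit false
set_option linter.unusedSectionVars false

namespace Cfsg.Agent.Block.SpecPSL

theorem iso_psl_even {G : Type*} [Group G] [Finite G] {F : Type*} [Field F] [Fintype F] {f : ℕ}
    (hf : 2 ≤ f) (hF : Fintype.card F = 2 ^ f)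
    (hcard : Nat.card G = 2 ^ f * ((2 ^ f - 1) * (2 ^ f + 1)))
    (spec : ∀ x : G, orderOf x ∣ 2 ∨ orderOf x ∣ 2 ^ f - 1 ∨ orderOf x ∣ 2 ^ f + 1) :
    Nonempty (G ≃* Matrix.ProjectiveSpecialLinearGroup (Fin 2) F) := by
  classical
  haveI : Fact (Nat.Prime 2) := ⟨Nat.prime_two⟩
  set q := 2 ^ f with hq
  have hq4 : 4 ≤ q := by
    calc 4 = 2 ^ 2 := by norm_num
      _ ≤ 2 ^ f := Nat.pow_le_pow_right (by norm_num) hf
  have hev : 2 ∣ q := dvd_pow_self 2 (by omega)
  have h2pow : ∀ x : G, 2 ∣ orderOf x → orderOf x = 2 := by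
    intro x hx
    rcases spec x with h | h | h
    · exact Nat.dvd_antisymm h hx
    · have := (Nat.dvd_sub hev (hx.trans h)); omega
    · have := (Nat.dvd_sub (hx.trans h) hev); omega
  have hfac : (Nat.card G).factorization 2 = f := by
    rw [hcard, Nat.factorization_mul (by omega) (Nat.mul_ne_zero (by omega) (by omega)), Finsupp.add_apply,
      Nat.factorization_eq_zero_of_not_dvd (n := (q - 1) * (q + 1))
        (fun h => (Nat.prime_two.dvd_mul.1 h).elim (fun h => by omega) (fun h => by omega)),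
      add_zero, hq, Nat.prime_two.factorization_pow, Finsupp.single_eq_same]
  obtain ⟨T⟩ : Nonempty (Sylow 2 G) := inferInstance
  have hTcard : Nat.card (T : Subgroup G) = q := by rw [T.card_eq_multiplicity, hfac]
  have hTexp : ∀ (P : Sylow 2 G), ∀ a ∈ (P : Subgroup G), a ^ 2 = 1 := by
    intro P a ha
    obtain ⟨i, hi⟩ := IsPGroup.iff_orderOf.1 P.isPGroup' ⟨a, ha⟩
    rw [Subgroup.orderOf_mk] at hi
    rcases i with _ | i
    · have h1 : a = 1 := orderOf_eq_one_iff.1 (by rw [hi, pow_zero])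
      rw [h1, one_pow]
    · rw [← h2pow a (hi ▸ dvd_pow_self 2 i.succ_ne_zero), pow_orderOf_eq_one]
  have hCexp : ∀ v : G, orderOf v = 2 → ∀ c ∈ Subgroup.centralizer ({v} : Set G), c ^ 2 = 1 := by
    intro v hv c hc
    rcases spec c with h | h | h
    · exact orderOf_dvd_iff_pow_eq_one.1 h
    all_goals
      have hco : (orderOf v).Coprime (orderOf c) := by
        rw [hv]
        refine Nat.prime_two.coprime_iff_not_dvd.2 fun h2 => ?_
        have := h2.trans h
        omega
      have hvc : Commute v c := (Subgroup.mem_centralizer_singleton_iff.1 hc).symm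
      have ho : orderOf (v * c) = 2 := h2pow _ (by
        rw [hvc.orderOf_mul_eq_mul_orderOf_of_coprime hco, hv]; exact dvd_mul_right _ _)
      rw [hvc.orderOf_mul_eq_mul_orderOf_of_coprime hco, hv] at ho
      rw [orderOf_eq_one_iff.1 (by omega : orderOf c = 1), one_pow]
  have hC : ∀ v : G, orderOf v = 2 → IsMulCommutative (Subgroup.centralizer ({v} : Set G)) ∧
      ∀ c ∈ Subgroup.centralizer ({v} : Set G), c ^ 2 = 1 := by
    refine fun v hv => ⟨⟨⟨fun a b => Subtype.ext ?_⟩⟩, hCexp v hv⟩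
    have hsq : ∀ c ∈ Subgroup.centralizer ({v} : Set G), c⁻¹ = c := fun c hc =>
      inv_eq_of_mul_eq_one_right (by rw [← pow_two, hCexp v hv c hc])
    calc (a : G) * b = ((a : G) * b)⁻¹ := (hsq _ (mul_mem a.2 b.2)).symm
      _ = b * a := by rw [mul_inv_rev, hsq _ a.2, hsq _ b.2]
  have hTsq : ∀ a ∈ (T : Subgroup G), a⁻¹ = a := fun a ha =>
    inv_eq_of_mul_eq_one_right (by rw [← pow_two, hTexp T a ha])
  have hTab : ∀ a ∈ (T : Subgroup G), ∀ b ∈ (T : Subgroup G), a * b = b * a := fun a ha b hb => by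
    calc a * b = (a * b)⁻¹ := (hTsq _ (mul_mem ha hb)).symm
      _ = b * a := by rw [mul_inv_rev, hTsq a ha, hTsq b hb]
  have hord : ∀ a ∈ (T : Subgroup G), a ≠ 1 → orderOf a = 2 := fun a ha h1 =>
    orderOf_eq_prime (hTexp T a ha) h1
  have hCcard : ∀ a ∈ (T : Subgroup G), a ≠ 1 →
      Subgroup.centralizer ({a} : Set G) = (T : Subgroup G) := by
    intro a ha h1
    refine T.is_maximal' (IsPGroup.iff_orderOf.2 fun ⟨c, hc⟩ => ?_) fun b hb =>
      Subgroup.mem_centralizer_singleton_iff.2 (hTab b hb a ha)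
    rw [Subgroup.orderOf_mk]
    rcases (Nat.dvd_prime Nat.prime_two).1 (orderOf_dvd_of_pow_eq_one (hCexp a (hord a ha h1) c hc)) with e | e
    · exact ⟨0, by rw [e, pow_zero]⟩
    · exact ⟨1, by rw [e, pow_one]⟩
  have hnc : ¬ IsCyclic (T : Subgroup G) := by
    intro h
    obtain ⟨⟨a, ha⟩, hao⟩ := IsCyclic.exists_ofOrder_eq_natCard (α := (T : Subgroup G))
    rw [Subgroup.orderOf_mk, hTcard] at hao
    have := Nat.le_of_dvd (by norm_num) (orderOf_dvd_of_pow_eq_one (hTexp T a ha))
    omega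
  have hnn : ¬ (T : Subgroup G).Normal := by
    intro hn
    obtain ⟨a, ha, ha1⟩ := (Subgroup.bot_or_exists_ne_one (T : Subgroup G)).resolve_left fun e => by
      rw [e, Subgroup.card_bot] at hTcard; omega
    have h := (MulAction.stabilizer (ConjAct G) a).card_mul_index
    have hst : Nat.card (MulAction.stabilizer (ConjAct G) a) = q := by
      rw [ConjAct.stabilizer_eq_centralizer, ← hTcard, ← hCcard a ha ha1]
      exact Nat.card_congr (ConjAct.ofConjAct.toEquiv.subtypeEquiv fun _ => Iff.rfl)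
    rw [hst, MulAction.index_stabilizer, show Nat.card (ConjAct G) = Nat.card G from
      Nat.card_congr ConjAct.ofConjAct.toEquiv, hcard] at h
    have h1 := Nat.eq_of_mul_eq_mul_left (by omega : 0 < q) h
    have h2 : (MulAction.orbit (ConjAct G) a).ncard ≤ ((T : Subgroup G) : Set G).ncard := by
      refine Set.ncard_le_ncard ?_ (Set.toFinite _)
      rintro _ ⟨c, rfl⟩
      exact hn.conj_mem a ha (ConjAct.ofConjAct c)
    rw [h1, ← Nat.card_coe_set_eq, show Nat.card ((T : Subgroup G) : Set G) = q from hTcard] at h2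
    have : q + 1 ≤ (q - 1) * (q + 1) := Nat.le_mul_of_pos_left _ (by omega)
    omega
  set H := Subgroup.normalizer ((T : Subgroup G) : Set G) with hH
  have hse : Cfsg.IsStronglyEmbedded H := Cfsg.Agent.S1226.result T hnc hnn hC
  have hTH : (T : Subgroup G) ≤ H := Subgroup.le_normalizer
  -- an involution outside
  obtain ⟨u, hu, huH⟩ : ∃ u : G, orderOf u = 2 ∧ u ∉ H := by
    by_contra hno
    push Not at hno
    refine hnn ⟨fun a ha c => ?_⟩
    rcases eq_or_ne a 1 with rfl | ha1
    · simp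
    have hmem : c * a * c⁻¹ ∈ H := hno _ (((MulAut.conj c).orderOf_eq a).trans (hord a ha ha1))
    have hX : IsPGroup 2 (Subgroup.zpowers (c * a * c⁻¹)) := IsPGroup.of_card (n := 1) (by
      rw [Nat.card_zpowers, pow_one]; exact ((MulAut.conj c).orderOf_eq a).trans (hord a ha ha1))
    have h := T.is_maximal' (hX.to_sup_of_normal_right' T.isPGroup' (Subgroup.zpowers_le.2 hmem)) le_sup_right
    exact h ▸ Subgroup.mem_sup_left (Subgroup.mem_zpowers _)
  have hHcard : Nat.card H = q * (q - 1) := by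
    rw [← hTcard]; exact (Cfsg.Agent.S1227.result T hnc hnn hC u hu huH).2.1
  have hΩ : Nat.card (G ⧸ H) = q + 1 := by
    have h := H.card_mul_index
    rw [hHcard, hcard, ← mul_assoc, Subgroup.index_eq_card] at h
    exact Nat.eq_of_mul_eq_mul_left (Nat.mul_pos (by omega) (by omega)) h
  haveI := Fintype.ofFinite (G ⧸ H)
  set ω₀ : G ⧸ H := QuotientGroup.mk 1 with hω₀
  set ω₁ : G ⧸ H := QuotientGroup.mk u with hω₁
  have hfix0 : ∀ a : G, a • ω₀ = ω₀ ↔ a ∈ H := fun a => by
    rw [hω₀, MulAction.Quotient.smul_mk, QuotientGroup.eq, smul_eq_mul, mul_one, mul_one, inv_mem_iff]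
  have hfixg : ∀ a g : G, a • (QuotientGroup.mk g : G ⧸ H) = QuotientGroup.mk g → g⁻¹ * a * g ∈ H := by
    intro a g h
    rw [MulAction.Quotient.smul_mk, eq_comm, QuotientGroup.eq, smul_eq_mul, ← mul_assoc] at h
    exact h
  have hne01 : ω₀ ≠ ω₁ := fun h => huH (by
    rw [hω₀, hω₁, QuotientGroup.eq, inv_one, one_mul] at h; exact h)
  -- an involution fixes one coset
  have honly : ∀ v : G, orderOf v = 2 → v • ω₀ = ω₀ → ∀ g : G,
      v • (QuotientGroup.mk g : G ⧸ H) = QuotientGroup.mk g → (QuotientGroup.mk g : G ⧸ H) = ω₀ := by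
    intro v hv h0 g hg
    have h := Invol.stronglyEmbedded_fix hse hv (g := 1) (h := g) (by simpa using (hfix0 v).1 h0) (hfixg v g hg)
    rw [inv_one, one_mul] at h
    rw [hω₀, QuotientGroup.eq, mul_one]
    exact inv_mem h
  obtain ⟨a₀, ha₀, ha₀1⟩ := (Subgroup.bot_or_exists_ne_one (T : Subgroup G)).resolve_left fun e => by
    rw [e, Subgroup.card_bot] at hTcard; omega
  have hne02 : ω₀ ≠ a₀ • ω₁ := fun h => hne01 (by
    have := congrArg (fun z => a₀⁻¹ • z) h
    simp only [inv_smul_smul] at this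
    rwa [(hfix0 _).2 (hTH (inv_mem ha₀))] at this)
  have hne12 : ω₁ ≠ a₀ • ω₁ := fun h =>
    hne01 (honly a₀ (hord a₀ ha₀ ha₀1) ((hfix0 _).2 (hTH ha₀)) u h.symm).symm
  let x₀ : Fin 3 ↪ G ⧸ H :=
    { toFun := ![ω₀, ω₁, a₀ • ω₁]
      inj' := by
        intro i j hij
        fin_cases i <;> fin_cases j <;> first
          | rfl
          | exact absurd hij hne01
          | exact absurd hij hne02
          | exact absurd hij hne12
          | exact absurd hij.symm hne01
          | exact absurd hij.symm hne02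
          | exact absurd hij.symm hne12 }
  have hstab : ∀ d : G, d • x₀ = x₀ → d = 1 := by
    intro d hd
    have h0 : d • ω₀ = ω₀ := DFunLike.congr_fun hd 0
    have h1 : d • ω₁ = ω₁ := DFunLike.congr_fun hd 1
    have h2 : d • (a₀ • ω₁) = a₀ • ω₁ := DFunLike.congr_fun hd 2
    by_contra hd1
    have hdH := (hfix0 d).1 h0
    have hda : d * a₀ * d⁻¹ ∈ (T : Subgroup G) := (Subgroup.mem_normalizer_iff.1 hdH a₀).1 ha₀
    set e := a₀⁻¹ * (d * a₀ * d⁻¹) with he
    have heT : e ∈ (T : Subgroup G) := mul_mem (inv_mem ha₀) hda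
    have hefix : e • ω₁ = ω₁ := by
      calc e • ω₁ = a₀⁻¹ • (d • (a₀ • (d⁻¹ • ω₁))) := by simp only [he, mul_smul]
        _ = a₀⁻¹ • (d • (a₀ • ω₁)) := by rw [inv_smul_eq_iff.2 h1.symm]
        _ = ω₁ := by rw [h2, inv_smul_smul]
    have he1 : e = 1 := by
      by_contra h
      exact hne01 (honly e (hord e heT h) ((hfix0 _).2 (hTH heT)) u hefix).symm
    have hdc : d ∈ Subgroup.centralizer ({a₀} : Set G) := by
      rw [Subgroup.mem_centralizer_singleton_iff]
      exact mul_inv_eq_iff_eq_mul.1 (inv_mul_eq_one.1 he1).symm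
    exact hne01 (honly d (orderOf_eq_prime (hCexp a₀ (hord a₀ ha₀ ha₀1) d hdc) hd1) h0 u h1).symm
  have hinj : Function.Injective (fun c : G => c • x₀) := by
    intro b c h
    have h' : c⁻¹ * b = 1 := hstab _ (by
      rw [mul_smul, show b • x₀ = c • x₀ from h, inv_smul_smul])
    exact (inv_mul_eq_one.1 h').symm
  have hsurj : Function.Surjective (fun c : G => c • x₀) := by
    haveI := Fintype.ofFinite G
    refine (hinj.bijective_of_nat_card_le ?_).2
    rw [Nat.card_eq_fintype_card, Fintype.card_embedding_eq, ← Nat.card_eq_fintype_card (α := G ⧸ H),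
      hΩ, Fintype.card_fin, hcard]
    refine le_of_eq ?_
    simp only [Nat.descFactorial_succ, Nat.descFactorial_zero, mul_one, Nat.sub_zero]
    rw [show q + 1 - 2 = q - 1 by omega, show q + 1 - 1 = q by omega]
    ring
  let φ := MulAction.toPermHom G (G ⧸ H)
  have hφ : Function.Injective φ := by
    rw [injective_iff_map_eq_one]
    intro c hc
    exact hstab c (DFunLike.ext _ _ fun i => Equiv.Perm.ext_iff.1 hc (x₀ i))
  have hr : ∀ (c : G) (x : Fin 3 ↪ G ⧸ H), (φ.rangeRestrict c) • x = c • x := fun c x => DFunLike.ext _ _ fun _ => rfl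
  have h3 : MulAction.IsMultiplyPretransitive φ.range (G ⧸ H) 3 := by
    rw [MulAction.isMultiplyPretransitive_iff]
    intro x y
    obtain ⟨b, rfl⟩ := hsurj x
    obtain ⟨c, rfl⟩ := hsurj y
    exact ⟨φ.rangeRestrict (c * b⁻¹), by rw [hr]; simp [mul_smul]⟩
  obtain ⟨K, _, _, hK, ⟨e⟩⟩ := Cfsg.Agent.S0727.result (f := f) (by omega)
    (by rw [← Nat.card_eq_fintype_card, hΩ]) φ.range h3 (fun x => by
      rw [Subgroup.eq_bot_iff_forall]
      intro w hw
      obtain ⟨c, rfl⟩ := φ.rangeRestrict_surjective w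
      obtain ⟨b, rfl⟩ := hsurj x
      rw [MulAction.mem_stabilizer_iff] at hw
      simp only [hr] at hw
      have h := hstab (b⁻¹ * c * b) (by rw [mul_smul, mul_smul, show c • b • x₀ = b • x₀ from hw, inv_smul_smul])
      have : c = 1 := by
        calc c = b * (b⁻¹ * c * b) * b⁻¹ := by group
          _ = 1 := by rw [h]; group
      rw [this, map_one])
  obtain ⟨e2⟩ := SmallPSL.pgl_iso_psl (K := K) (F := F) (f := f) (by omega) hK hF
  exact ⟨((MonoidHom.ofInjective hφ).trans e).trans e2⟩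

end Cfsg.Agent.Block.SpecPSL
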