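import Mathlib
import Cfsg.Agent.Lib.Block.SpecPSL.Basic
import Cfsg.Agent.Lib.Grp.Coprime

/-!
Normalisers of small subgroups and the absence of solvable normal subgroups.
-/

set_option autoImplicit false
set_option linter.unusedSectionVars false

namespace Cfsg.Agent.Block.SpecPSL

namespace Hyp

variable {G : Type*} [Group G] [Finite G] {p q m n : ℕ}

theorem exists_n_prime (d : Hyp G p q m n) : ∃ r : ℕ, r.Prime ∧ r ∣ n := by
  obtain ⟨r, hr, h⟩ := Nat.exists_prime_and_dvd (show n ≠ 1 by have := d.n_three; omega)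
  exact ⟨r, hr, h⟩

theorem exists_order_n_prime (d : Hyp G p q m n) {r : ℕ} (hr : r ∣ n) : ∃ x : G, orderOf x = r := by
  obtain ⟨a, ha⟩ := d.exn
  obtain ⟨y, -, hy⟩ := exists_prime_order a (ha ▸ hr)
  exact ⟨y, hy⟩

theorem exists_involution (d : Hyp G p q m n) : ∃ t : G, orderOf t = 2 := by
  obtain ⟨g, hg⟩ := d.exm
  exact ⟨_, (d.torus_two hg).1⟩

/-- A cyclic subgroup from the first torus is not normalized by elements of both other components. -/
theorem no_cyclic (d : Hyp G p q m n) (R : Subgroup G) (hR : IsCyclic R) {z : G} (hz : z ∈ R) {r : ℕ}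
    (hr : r.Prime) (hzo : orderOf z = r) (hrm : r ∣ m) {x y : G}
    (hx : x ∈ Subgroup.normalizer (R : Set G)) (hy : y ∈ Subgroup.normalizer (R : Set G))
    (hxo : orderOf x = p) {s : ℕ} (hs : s.Prime) (hyo : orderOf y = s) (hsn : s ∣ n) : False := by
  set φ := R.normalizerMonoidHom with hφ
  have hker : ∀ (w : Subgroup.normalizer (R : Set G)) (l : ℕ), l.Prime → orderOf (w : G) = l →
      ¬ l ∣ m → φ w ≠ 1 := by
    intro w l hl hw hlm h
    have h1 : (w : G) * z * (w : G)⁻¹ = z := congrArg Subtype.val (DFunLike.congr_fun h (⟨z, hz⟩ : R))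
    exact hlm ((d.comp_commute hr hl hzo hw
      (show z * (w : G) = w * z from (mul_inv_eq_iff_eq_mul.1 h1).symm)).2.1 hrm)
  have hcomm : Commute (φ ⟨x, hx⟩) (φ ⟨y, hy⟩) := by
    haveI := hR
    let e := IsCyclic.mulAutMulEquiv R
    exact e.injective (by rw [map_mul, map_mul]; exact mul_comm _ _)
  have hsp : s ≠ p := fun e => d.p_not_dvd_n (e ▸ hsn)
  have h1 : orderOf (φ ⟨x, hx⟩) = p := by
    have h := orderOf_map_dvd φ ⟨x, hx⟩
    rw [Subgroup.orderOf_mk, hxo] at h
    exact ((Nat.dvd_prime d.hp).1 h).resolve_left fun e =>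
      hker ⟨x, hx⟩ p d.hp hxo d.p_not_dvd_m (orderOf_eq_one_iff.1 e)
  have h2 : orderOf (φ ⟨y, hy⟩) = s := by
    have h := orderOf_map_dvd φ ⟨y, hy⟩
    rw [Subgroup.orderOf_mk, hyo] at h
    exact ((Nat.dvd_prime hs).1 h).resolve_left fun e =>
      hker ⟨y, hy⟩ s hs hyo (fun h => d.not_dvd_both hs h hsn) (orderOf_eq_one_iff.1 e)
  have h3 : p * s ∣ orderOf (x * y) := by
    have h := orderOf_map_dvd φ (⟨x, hx⟩ * ⟨y, hy⟩)
    rwa [map_mul, hcomm.orderOf_mul_eq_mul_orderOf_of_coprime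
      (by rw [h1, h2]; exact (Nat.coprime_primes d.hp hs).2 (Ne.symm hsp)), h1, h2,
      ← Subgroup.orderOf_coe] at h
  exact hsp ((d.comp_iff d.hp hs ((dvd_mul_right p s).trans h3) ((dvd_mul_left s p).trans h3)).1 rfl)

/-- An abelian subgroup outside the first torus is not normalized by an involution and an element of
the remaining component. -/
theorem no_abelian (d : Hyp G p q m n) (R : Subgroup G) (hR : ∀ a ∈ R, ∀ b ∈ R, a * b = b * a)
    {r : ℕ} (hr : r.Prime) (hrm : ¬ r ∣ m) {z : G} (hz : z ∈ R) (hzo : orderOf z = r)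
    (hRr : ∀ a ∈ R, ∀ l : ℕ, l.Prime → l ∣ orderOf a → l = r)
    {t a : G} (ht : t ∈ Subgroup.normalizer (R : Set G)) (ha : a ∈ Subgroup.normalizer (R : Set G))
    (hto : orderOf t = 2) {s : ℕ} (hs : s.Prime) (hao : orderOf a = s) (hsm : ¬ s ∣ m)
    (hsr : (r = p → s ≠ p) ∧ (r ∣ n → ¬ s ∣ n)) (hrc : r = p ∨ r ∣ n) : False := by
  set φ := R.normalizerMonoidHom with hφ
  have ht2 : t * t = 1 := by rw [← pow_two, ← hto, pow_orderOf_eq_one]
  -- the involution inverts the subgroup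
  have hinv : ∀ b ∈ R, t * b * t⁻¹ = b⁻¹ := by
    intro b hb
    have hb' : t * b * t⁻¹ ∈ R := (Subgroup.mem_normalizer_iff.1 ht b).1 hb
    have hfix : t * (b * (t * b * t⁻¹)) * t⁻¹ = b * (t * b * t⁻¹) := by
      rw [inv_eq_of_mul_eq_one_right ht2] at hb' ⊢
      calc t * (b * (t * b * t)) * t = (t * b * t) * b * (t * t) := by group
        _ = (t * b * t) * b := by rw [ht2, mul_one]
        _ = b * (t * b * t) := hR _ hb' b hb
    by_contra hne
    have hw1 : b * (t * b * t⁻¹) ≠ 1 := fun e => hne (eq_inv_of_mul_eq_one_right e)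
    obtain ⟨l, hl, hld⟩ := Nat.exists_prime_and_dvd (mt orderOf_eq_one_iff.1 hw1)
    obtain rfl := hRr _ (mul_mem hb hb') l hl hld
    obtain ⟨w, hw, hwo⟩ := exists_prime_order _ hld
    obtain ⟨i, rfl⟩ := hw
    have hc : Commute t (b * (t * b * t⁻¹)) := mul_inv_eq_iff_eq_mul.1 hfix
    exact hrm ((d.comp_commute Nat.prime_two hl hto hwo (hc.zpow_right i)).2.1 d.two_dvd_m)
  have hker : ∀ (w : Subgroup.normalizer (R : Set G)) (l : ℕ), l.Prime → orderOf (w : G) = l →
      ¬ ((r = p → l = p) ∧ (r ∣ n → l ∣ n)) → φ w ≠ 1 := by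
    intro w l hl hw hll h
    have h1 : (w : G) * z * (w : G)⁻¹ = z := congrArg Subtype.val (DFunLike.congr_fun h (⟨z, hz⟩ : R))
    have h2 := d.comp_commute hr hl hzo hw
      (show z * (w : G) = w * z from (mul_inv_eq_iff_eq_mul.1 h1).symm)
    exact hll ⟨h2.1, h2.2.2⟩
  have hcomm : Commute (φ ⟨t, ht⟩) (φ ⟨a, ha⟩) := by
    refine MulEquiv.ext fun b => Subtype.ext ?_
    change t * (a * b * a⁻¹) * t⁻¹ = a * (t * b * t⁻¹) * a⁻¹
    rw [hinv _ ((Subgroup.mem_normalizer_iff.1 ha b).1 b.2), hinv _ b.2]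
    group
  have hs2 : s ≠ 2 := fun e => hsm (e ▸ d.two_dvd_m)
  have h1 : orderOf (φ ⟨t, ht⟩) = 2 := by
    have h := orderOf_map_dvd φ ⟨t, ht⟩
    rw [Subgroup.orderOf_mk, hto] at h
    refine ((Nat.dvd_prime Nat.prime_two).1 h).resolve_left fun e =>
      hker ⟨t, ht⟩ 2 Nat.prime_two hto (fun hh => ?_) (orderOf_eq_one_iff.1 e)
    rcases hrc with h' | h'
    · exact d.hp2 (hh.1 h').symm
    · exact d.not_dvd_both Nat.prime_two d.two_dvd_m (hh.2 h')
  have h2 : orderOf (φ ⟨a, ha⟩) = s := by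
    have h := orderOf_map_dvd φ ⟨a, ha⟩
    rw [Subgroup.orderOf_mk, hao] at h
    refine ((Nat.dvd_prime hs).1 h).resolve_left fun e =>
      hker ⟨a, ha⟩ s hs hao (fun hh => ?_) (orderOf_eq_one_iff.1 e)
    rcases hrc with h' | h'
    · exact hsr.1 h' (hh.1 h')
    · exact hsr.2 h' (hh.2 h')
  have h3 : 2 * s ∣ orderOf (t * a) := by
    have h := orderOf_map_dvd φ (⟨t, ht⟩ * ⟨a, ha⟩)
    rwa [map_mul, hcomm.orderOf_mul_eq_mul_orderOf_of_coprime
      (by rw [h1, h2]; exact (Nat.coprime_primes Nat.prime_two hs).2 (Ne.symm hs2)), h1, h2,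
      ← Subgroup.orderOf_coe] at h
  exact hsm ((d.comp_iff Nat.prime_two hs ((dvd_mul_right 2 s).trans h3)
    ((dvd_mul_left s 2).trans h3)).2.1 d.two_dvd_m)

theorem exists_other (d : Hyp G p q m n) {r : ℕ} (hr : r = p ∨ r ∣ n) :
    ∃ (s : ℕ) (a : G), s.Prime ∧ orderOf a = s ∧ ¬ s ∣ m ∧ (r = p → s ≠ p) ∧ (r ∣ n → ¬ s ∣ n) := by
  rcases hr with rfl | hr
  · obtain ⟨s, hs, hsn⟩ := d.exists_n_prime
    obtain ⟨a, ha⟩ := d.exists_order_n_prime hsn
    exact ⟨s, a, hs, ha, fun h => d.not_dvd_both hs h hsn, fun _ e => d.p_not_dvd_n (e ▸ hsn),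
      fun h => absurd h d.p_not_dvd_n⟩
  · obtain ⟨a, ha⟩ := d.exp
    exact ⟨p, a, d.hp, ha, d.p_not_dvd_m, fun e => absurd (e ▸ hr) d.p_not_dvd_n, fun _ => d.p_not_dvd_n⟩

/-- There are no nontrivial normal elementary abelian subgroups. -/
theorem elementary_normal_bot (d : Hyp G p q m n) (R : Subgroup G) [R.Normal]
    (hR : ∀ a ∈ R, ∀ b ∈ R, a * b = b * a) {r : ℕ} [hr : Fact r.Prime] (hexp : ∀ a ∈ R, a ^ r = 1) :
    R = ⊥ := by
  by_contra hne
  obtain ⟨z, hz, hz1⟩ := (Subgroup.bot_or_exists_ne_one R).resolve_left hne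
  have hzo : orderOf z = r := orderOf_eq_prime (hexp z hz) hz1
  have hnorm : ∀ g : G, g ∈ Subgroup.normalizer (R : Set G) := fun g => by
    rw [Subgroup.normalizer_eq_top_iff.2 inferInstance]; trivial
  have hRp : IsPGroup r R := fun a => ⟨1, Subtype.ext (by simpa using hexp a a.2)⟩
  have hRr : ∀ a ∈ R, ∀ l : ℕ, l.Prime → l ∣ orderOf a → l = r := fun a ha l hl h =>
    (Nat.prime_dvd_prime_iff_eq hl hr.out).1 (h.trans (orderOf_dvd_of_pow_eq_one (hexp a ha)))
  have hrG : r ∣ Nat.card G := hzo ▸ orderOf_dvd_natCard z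
  by_cases hrm : r ∣ m
  · obtain ⟨s, hs, hsn⟩ := d.exists_n_prime
    obtain ⟨y, hy⟩ := d.exists_order_n_prime hsn
    obtain ⟨x, hx⟩ := d.exp
    by_cases hr2 : r = 2
    · subst hr2
      obtain ⟨g, hg⟩ := d.exm
      obtain ⟨-, -, -, -, S, -, hSi⟩ := d.torus_two hg
      have hRS : R ≤ (S : Subgroup G) := hRp.le_sylow_of_normal S
      have hint : Nat.card ↥(Subgroup.zpowers g ⊓ R) ≤ 2 := by
        have hc : IsCyclic ↥(Subgroup.zpowers g ⊓ R) :=
          isCyclic_of_surjective (Subgroup.subgroupOfEquivOfLe inf_le_left).toMonoidHom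
            (Subgroup.subgroupOfEquivOfLe inf_le_left).surjective
        obtain ⟨w, hw⟩ := hc.exists_generator
        rw [← orderOf_eq_card_of_forall_mem_zpowers hw, ← Subgroup.orderOf_coe]
        exact Nat.le_of_dvd (by norm_num) (orderOf_dvd_of_pow_eq_one (hexp _ (Subgroup.mem_inf.1 w.2).2))
      have hcard : Nat.card R ≤ 4 := by
        have h1 := Subgroup.card_mul_index ((Subgroup.zpowers g ⊓ R).subgroupOf R)
        rw [Nat.card_congr (Subgroup.subgroupOfEquivOfLe inf_le_right).toEquiv] at h1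
        have h2 : (Subgroup.zpowers g ⊓ R).relIndex R ≤ 2 := by
          have h3 := Subgroup.relIndex_le_of_le_right (H := Subgroup.zpowers g ⊓ (S : Subgroup G)) hRS
            (by rw [hSi]; norm_num)
          rw [hSi] at h3
          rwa [← Subgroup.inf_relIndex_right, inf_assoc, inf_eq_right.2 hRS] at h3
        change _ * (Subgroup.zpowers g ⊓ R).relIndex R = _ at h1
        rw [← h1]
        calc _ ≤ 2 * 2 := Nat.mul_le_mul hint h2
          _ = 4 := rfl
      set φ := (MulAut.conjNormal : G →* MulAut R)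
      have hdvd : Nat.card (MulAut R) ∣ 24 := by
        have h1 : Function.Injective (MulAut.toPerm R) := fun e e' h =>
          MulEquiv.ext fun b => Equiv.congr_fun h b
        refine (Subgroup.card_dvd_of_injective _ h1).trans ?_
        rw [Nat.card_perm, show (24 : ℕ) = Nat.factorial 4 from rfl]
        exact Nat.factorial_dvd_factorial hcard
      have hthree : ∀ (w : G) (l : ℕ), l.Prime → orderOf w = l → ¬ l ∣ m → l = 3 := by
        intro w l hl hw hlm
        have h1 : φ w ≠ 1 := fun h => by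
          have h2 : w * z * w⁻¹ = z := by
            have := congrArg Subtype.val (DFunLike.congr_fun h (⟨z, hz⟩ : R))
            rw [MulAut.conjNormal_apply] at this
            exact this
          exact hlm ((d.comp_commute hr.out hl hzo hw
            (show z * w = w * z from (mul_inv_eq_iff_eq_mul.1 h2).symm)).2.1 hrm)
        have h3 : orderOf (φ w) = l := ((Nat.dvd_prime hl).1 (hw ▸ orderOf_map_dvd φ w)).resolve_left
          fun e => h1 (orderOf_eq_one_iff.1 e)
        have h4 : l ∣ 24 := h3 ▸ (orderOf_dvd_natCard (φ w)).trans hdvd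
        rcases hl.dvd_mul.1 (show l ∣ 3 * 2 ^ 3 from h4) with h5 | h5
        · exact (Nat.prime_dvd_prime_iff_eq hl Nat.prime_three).1 h5
        · exact absurd ((Nat.prime_dvd_prime_iff_eq hl Nat.prime_two).1 (hl.dvd_of_dvd_pow h5) ▸ d.two_dvd_m) hlm
      have h5 := hthree x p d.hp hx d.p_not_dvd_m
      have h6 := hthree y s hs hy (fun h => d.not_dvd_both hs h hsn)
      exact d.p_not_dvd_n (h5.trans h6.symm ▸ hsn)
    · exact d.no_cyclic R (d.isCyclic_rgroup (Or.inl ⟨hr2, hrm⟩) hRp) hz hr.out hzo hrm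
        (hnorm x) (hnorm y) hx hs hy hsn
  · have hrc : r = p ∨ r ∣ n := (d.prime_dvd_card hr.out hrG).imp id (Or.resolve_left · hrm)
    obtain ⟨s, a, hs, ha, hsm, hsr⟩ := d.exists_other hrc
    obtain ⟨t, ht⟩ := d.exists_involution
    exact d.no_abelian R hR hr.out hrm hz hzo hRr (hnorm t) (hnorm a) ht hs ha hsm hsr hrc

/-- There is no nontrivial solvable normal subgroup. -/
theorem solvable_normal_bot (d : Hyp G p q m n) (N : Subgroup G) [hN : N.Normal]
    (hs : Group.IsSolvable N) : N = ⊥ := by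
  classical
  by_contra hne
  obtain ⟨M, ⟨hMN, hMn, hMne⟩, hMmin⟩ := (Set.toFinite
    {M : Subgroup G | M ≤ N ∧ M.Normal ∧ M ≠ ⊥}).exists_minimal ⟨N, le_rfl, hN, hne⟩
  haveI := hMn
  have hsM : Group.IsSolvable M := Grp.isSolvable_of_le hMN hs
  have hcomm : (⁅M, M⁆ : Subgroup G) = ⊥ := by
    by_contra h
    have hlt : (⁅M, M⁆ : Subgroup G) < M := by
      refine lt_of_le_of_ne (Subgroup.commutator_le_self M) fun e => ?_
      haveI : Nontrivial M := (Subgroup.nontrivial_iff_ne_bot M).2 hMne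
      have h1 := Group.IsSolvable.commutator_lt_top_of_nontrivial M
      refine h1.ne (Subgroup.map_injective M.subtype_injective ?_)
      rw [← MonoidHom.range_eq_map, Subgroup.range_subtype, commutator_def, Subgroup.map_commutator,
        ← MonoidHom.range_eq_map, Subgroup.range_subtype, e]
    exact hlt.not_ge (hMmin ⟨hlt.le.trans hMN, inferInstance, h⟩ hlt.le)
  have hab : ∀ a ∈ M, ∀ b ∈ M, a * b = b * a := fun a ha b hb => by
    have h := Subgroup.commutator_mem_commutator ha hb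
    rw [hcomm, Subgroup.mem_bot, commutatorElement_eq_one_iff_commute] at h
    exact h
  obtain ⟨r, hr, hrd⟩ := Nat.exists_prime_and_dvd (mt (Subgroup.eq_bot_of_card_eq _) hMne)
  haveI : Fact r.Prime := ⟨hr⟩
  let R : Subgroup G :=
    { carrier := {a | a ∈ M ∧ a ^ r = 1}
      one_mem' := ⟨one_mem _, one_pow _⟩
      mul_mem' := fun {a b} ha hb => ⟨mul_mem ha.1 hb.1, by
        rw [(show Commute a b from hab a ha.1 b hb.1).mul_pow, ha.2, hb.2, one_mul]⟩
      inv_mem' := fun {a} ha => ⟨inv_mem ha.1, by rw [inv_pow, ha.2, inv_one]⟩ }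
  haveI : R.Normal := ⟨fun a ha g => ⟨hMn.conj_mem a ha.1 g, by rw [conj_pow, ha.2, mul_one, mul_inv_cancel]⟩⟩
  have hR := d.elementary_normal_bot R (fun a ha b hb => hab a ha.1 b hb.1) (r := r) (fun a ha => ha.2)
  obtain ⟨⟨w, hw⟩, hwo⟩ := exists_prime_orderOf_dvd_card' r hrd
  rw [Subgroup.orderOf_mk] at hwo
  have h1 : w ∈ R := ⟨hw, by rw [← hwo, pow_orderOf_eq_one]⟩
  rw [hR, Subgroup.mem_bot] at h1
  rw [h1, orderOf_one] at hwo
  exact hr.ne_one hwo.symm

end Hyp

end Cfsg.Agent.Block.SpecPSL
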