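import Mathlib
import Cfsg.Agent.Lib.Block.SpecPSL.Local
import Cfsg.Agent.Lib.Block.BSWRec.Recognize

/-!
There is no nontrivial normal subgroup of odd order.
-/

set_option autoImplicit false
set_option linter.unusedSectionVars false

open scoped Pointwise

namespace Cfsg.Agent.Block.SpecPSL

open Grp

variable {G : Type*} [Group G] [Finite G] {p q m n : ℕ}

theorem index_two_dvd_normalizer (M P : Subgroup G) [M.Normal]
    (h : Subgroup.normalizer (P : Set G) ⊔ M = ⊤) {s : ℕ} (hs : s ∣ M.index) :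
    s ∣ Nat.card (Subgroup.normalizer (P : Set G)) := by
  refine hs.trans ?_
  have h1 := Subgroup.relIndex_sup_right (K := M) (H := Subgroup.normalizer (P : Set G))
  rw [h, Subgroup.relIndex_top_right] at h1
  rw [h1]
  exact Dvd.intro_left _ (Subgroup.card_mul_index _)

namespace Hyp

theorem exists_n_full (d : Hyp G p q m n) (M : Subgroup G) [M.Normal] (hM : ¬ Group.IsSolvable M)
    (hodd : Odd (Nat.card M)) : ∃ r : ℕ, r.Prime ∧ r ∣ Nat.card M ∧ (r = p ∨ r ∣ n) := by
  by_contra hno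
  push Not at hno
  refine hM ?_
  haveI : IsZGroup M := ⟨fun r hr P => by
    haveI : Fact r.Prime := ⟨hr⟩
    rcases eq_or_ne (P : Subgroup M) ⊥ with h | h
    · rw [h]; infer_instance
    have hrd : r ∣ Nat.card M := by
      obtain ⟨w, hw, hw1⟩ := (Subgroup.bot_or_exists_ne_one (P : Subgroup M)).resolve_left h
      obtain ⟨i, hi⟩ := IsPGroup.iff_orderOf.1 P.isPGroup' ⟨w, hw⟩
      rw [Subgroup.orderOf_mk] at hi
      rcases i with _ | i
      · exact absurd (orderOf_eq_one_iff.1 (by rw [hi, pow_zero])) hw1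
      · exact (hi ▸ dvd_pow_self r i.succ_ne_zero : r ∣ orderOf w).trans (orderOf_dvd_natCard w)
    have hr2 : r ≠ 2 := fun e => Nat.not_even_iff_odd.2 hodd (even_iff_two_dvd.2 (e ▸ hrd))
    have hrm : r ∣ m := by
      rcases d.prime_dvd_card hr (hrd.trans (Subgroup.card_subgroup_dvd_card M)) with e | e | e
      · exact absurd e (hno r hr hrd).1
      · exact e
      · exact absurd e (hno r hr hrd).2
    haveI := d.isCyclic_rgroup (Or.inl ⟨hr2, hrm⟩) (P.isPGroup'.map M.subtype)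
    exact isCyclic_of_surjective ((P : Subgroup M).equivMapOfInjective M.subtype M.subtype_injective).symm.toMonoidHom
      ((P : Subgroup M).equivMapOfInjective M.subtype M.subtype_injective).symm.surjective⟩
  infer_instance

theorem other_full (d : Hyp G p q m n) (M : Subgroup G) [M.Normal] (hodd : Odd (Nat.card M))
    {r : ℕ} (hr : r.Prime) (hrd : r ∣ Nat.card M) (hrc : r = p ∨ r ∣ n) {s : ℕ} (hs : s.Prime)
    (hsm : ¬ s ∣ m) (hsr : (r = p → s ≠ p) ∧ (r ∣ n → ¬ s ∣ n)) : ¬ s ∣ M.index := by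
  intro hsi
  haveI : Fact r.Prime := ⟨hr⟩
  haveI : Fact s.Prime := ⟨hs⟩
  haveI : Fact (Nat.Prime 2) := ⟨Nat.prime_two⟩
  have hrm : ¬ r ∣ m := fun h => by
    rcases hrc with rfl | h'
    · exact d.p_not_dvd_m h
    · exact d.not_dvd_both hr h h'
  obtain ⟨P⟩ : Nonempty (Sylow r M) := inferInstance
  have hN := P.normalizer_sup_eq_top
  set P' := (P : Subgroup M).map M.subtype with hP'
  set N := Subgroup.normalizer (P' : Set G) with hNdef
  have h2 : 2 ∣ M.index := by
    have h := M.card_mul_index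
    have h2 : 2 ∣ Nat.card M * M.index := by
      rw [h, d.hcard]; exact Dvd.dvd.mul_left (dvd_mul_right 2 m) _
    exact ((Nat.prime_two.dvd_mul).1 h2).resolve_left
      fun e => Nat.not_even_iff_odd.2 hodd (even_iff_two_dvd.2 e)
  obtain ⟨⟨t, ht⟩, hto⟩ := exists_prime_orderOf_dvd_card' 2 (index_two_dvd_normalizer M P' hN h2)
  obtain ⟨⟨a, ha⟩, hao⟩ := exists_prime_orderOf_dvd_card' s (index_two_dvd_normalizer M P' hN hsi)
  rw [Subgroup.orderOf_mk] at hto hao
  -- the centre of `P'`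
  let R : Subgroup G := P' ⊓ Subgroup.centralizer (P' : Set G)
  have hRN : ∀ g ∈ N, g ∈ Subgroup.normalizer (R : Set G) := by
    intro g hg
    rw [Subgroup.mem_normalizer_iff]
    have key : ∀ g ∈ N, ∀ x ∈ R, g * x * g⁻¹ ∈ R := by
      intro g hg x hx
      obtain ⟨hx1, hx2⟩ := Subgroup.mem_inf.1 hx
      refine Subgroup.mem_inf.2 ⟨(Subgroup.mem_normalizer_iff.1 hg x).1 hx1, ?_⟩
      rw [Subgroup.mem_centralizer_iff]
      intro y hy
      have hy' : g⁻¹ * y * g ∈ P' := by
        have := (Subgroup.mem_normalizer_iff.1 (inv_mem hg) y).1 hy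
        rwa [inv_inv] at this
      have h := Subgroup.mem_centralizer_iff.1 hx2 _ hy'
      calc y * (g * x * g⁻¹) = g * (g⁻¹ * y * g * x) * g⁻¹ := by group
        _ = g * (x * (g⁻¹ * y * g)) * g⁻¹ := by rw [h]
        _ = g * x * g⁻¹ * y := by group
    intro x
    refine ⟨key g hg x, fun h => ?_⟩
    have := key g⁻¹ (inv_mem hg) _ h
    rwa [show g⁻¹ * (g * x * g⁻¹) * g⁻¹⁻¹ = x by group] at this
  have hRab : ∀ a ∈ R, ∀ b ∈ R, a * b = b * a := fun a ha b hb =>
    Subgroup.mem_centralizer_iff.1 (Subgroup.mem_inf.1 hb).2 a (Subgroup.mem_inf.1 ha).1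
  have hP1 : Nontrivial (P : Subgroup M) :=
    (Subgroup.nontrivial_iff_ne_bot _).2 (P.ne_bot_of_dvd_card hrd)
  haveI := hP1
  haveI := IsPGroup.center_nontrivial P.isPGroup'
  obtain ⟨⟨w, hw⟩, hw1⟩ := exists_ne (1 : Subgroup.center (P : Subgroup M))
  have hwR : ((w : M) : G) ∈ R := by
    refine Subgroup.mem_inf.2 ⟨⟨_, w.2, rfl⟩, Subgroup.mem_centralizer_iff.2 ?_⟩
    rintro _ ⟨y, hy, rfl⟩
    exact congrArg (fun z : (P : Subgroup M) => ((z : M) : G)) (Subgroup.mem_center_iff.1 hw ⟨y, hy⟩)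
  have hPp : IsPGroup r P' := P.isPGroup'.map M.subtype
  have hRr : ∀ x ∈ R, ∀ l : ℕ, l.Prime → l ∣ orderOf x → l = r := by
    intro x hx l hl hld
    obtain ⟨i, hi⟩ := IsPGroup.iff_orderOf.1 hPp ⟨x, (Subgroup.mem_inf.1 hx).1⟩
    rw [Subgroup.orderOf_mk] at hi
    exact (Nat.prime_dvd_prime_iff_eq hl hr).1 (hl.dvd_of_dvd_pow (hi ▸ hld))
  obtain ⟨l, hl, hld⟩ := Nat.exists_prime_and_dvd
    (mt orderOf_eq_one_iff.1 (show ((w : M) : G) ≠ 1 from fun e => hw1 (Subtype.ext (Subtype.ext (Subtype.ext e)))))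
  obtain rfl := hRr _ hwR l hl hld
  obtain ⟨z, hz, hzo⟩ := exists_prime_order _ hld
  exact d.no_abelian R hRab hr hrm ((Subgroup.zpowers_le.2 hwR) hz) hzo hRr (hRN t ht) (hRN a ha)
    hto hs hao hsm hsr hrc

theorem pow_dvd_of_not_dvd_index (M : Subgroup G) {r : ℕ} (hr : r.Prime) (h : ¬ r ∣ M.index) {e : ℕ}
    (he : r ^ e ∣ Nat.card G) : r ^ e ∣ Nat.card M := by
  rw [← M.card_mul_index] at he
  exact ((hr.coprime_iff_not_dvd.2 h).pow_left e).dvd_of_dvd_mul_right he

theorem qn_dvd (d : Hyp G p q m n) (M : Subgroup G) [M.Normal] (hM : ¬ Group.IsSolvable M)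
    (hodd : Odd (Nat.card M)) : q * n ∣ Nat.card M ∧ ∀ r : ℕ, r.Prime → r ∣ n → ¬ r ∣ M.index := by
  obtain ⟨r, hr, hrd, hrc⟩ := d.exists_n_full M hM hodd
  obtain ⟨s₀, hs₀, hs₀n⟩ := d.exists_n_prime
  have hn_of_p : p ∣ Nat.card M → ∀ r : ℕ, r.Prime → r ∣ n → ¬ r ∣ M.index := fun h s hs hsn =>
    d.other_full M hodd d.hp h (Or.inl rfl) hs (fun e => d.not_dvd_both hs e hsn)
      ⟨fun _ e => d.p_not_dvd_n (e ▸ hsn), fun e => absurd e d.p_not_dvd_n⟩
  have hp_of_n : ∀ s, s.Prime → s ∣ n → s ∣ Nat.card M → ¬ p ∣ M.index := fun s hs hsn h =>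
    d.other_full M hodd hs h (Or.inr hsn) d.hp d.p_not_dvd_m
      ⟨fun e => absurd (e ▸ hsn) d.p_not_dvd_n, fun _ => d.p_not_dvd_n⟩
  have hpG : p ∣ Nat.card G := by rw [d.hcard]; exact (d.p_dvd_q.mul_right n).mul_right _
  have hsG : ∀ s, s ∣ n → s ∣ Nat.card G := fun s h => by
    rw [d.hcard]; exact (h.mul_left q).mul_right _
  have hp : p ∣ Nat.card M := by
    rcases hrc with rfl | hrn
    · exact hrd
    · simpa using pow_dvd_of_not_dvd_index M d.hp (hp_of_n r hr hrn hrd) (e := 1) (by simpa using hpG)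
  have hn' := hn_of_p hp
  have hs₀M : s₀ ∣ Nat.card M := by
    simpa using pow_dvd_of_not_dvd_index M hs₀ (hn' s₀ hs₀ hs₀n) (e := 1) (by simpa using hsG s₀ hs₀n)
  have hp' := hp_of_n s₀ hs₀ hs₀n hs₀M
  refine ⟨?_, hn'⟩
  refine Nat.Coprime.dvd_of_dvd_mul_right (k := q * n) (n := M.index) ?_ ?_
  · refine Nat.coprime_of_dvd fun k hk h1 h2 => ?_
    rcases hk.dvd_mul.1 h1 with h | h
    · exact hp' (d.prime_dvd_q hk h ▸ h2)
    · exact hn' k hk h h2
  · rw [M.card_mul_index, d.hcard]; exact dvd_mul_right _ _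

/-- An element of `M` of order dividing `r ^ e` is conjugate into a fixed torus. -/
theorem exists_conj_mem_torus (d : Hyp G p q m n) {r : ℕ} [Fact r.Prime]
    (h : (r ≠ 2 ∧ r ∣ m) ∨ r ∣ n) {a : G} (ha : orderOf a = if r ∣ m then m else n) {y : G}
    (hy : orderOf y = r) : ∃ g : G, g * y * g⁻¹ ∈ Subgroup.zpowers a := by
  obtain ⟨R, hR, -⟩ := d.exists_cyclic_sylow h ha
  obtain ⟨P, hP⟩ := (IsPGroup.of_card (p := r) (n := 1) (G := Subgroup.zpowers y)
    (by rw [Nat.card_zpowers, hy, pow_one])).exists_le_sylow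
  obtain ⟨g, hg⟩ := MulAction.exists_smul_eq G P R
  refine ⟨g, hR ?_⟩
  rw [← hg, Sylow.coe_subgroup_smul]
  exact Subgroup.smul_mem_pointwise_smul y (MulAut.conj g) _ (hP (Subgroup.mem_zpowers y))

end Hyp

theorem eq_of_card_in_cyclic {A X Y : Subgroup G} (hA : IsCyclic A) (hX : X ≤ A) (hY : Y ≤ A)
    (h : Nat.card X = Nat.card Y) : X = Y := by
  haveI := hA
  have e : X.subgroupOf A = Y.subgroupOf A := BSWRec.subgroup_eq_of_card (by
    rw [Nat.card_congr (Subgroup.subgroupOfEquivOfLe hX).toEquiv,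
      Nat.card_congr (Subgroup.subgroupOfEquivOfLe hY).toEquiv, h])
  rwa [Subgroup.subgroupOf_inj, inf_eq_left.2 hX, inf_eq_left.2 hY] at e

theorem zpowers_le_normalizer_of_conj {t : G} {X : Subgroup G} (ht : t * t = 1)
    (h : ∀ w ∈ X, t * w * t⁻¹ ∈ X) : Subgroup.zpowers t ≤ Subgroup.normalizer (X : Set G) := by
  rw [Subgroup.zpowers_le, Subgroup.mem_normalizer_iff]
  intro w
  refine ⟨h w, fun hw => ?_⟩
  have h1 := h _ hw
  rw [inv_eq_of_mul_eq_one_right ht] at h1
  rwa [show t * (t * w * t) * t = (t * t) * w * (t * t) by group, ht, one_mul, mul_one] at h1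

namespace Hyp

theorem odd_normal_bot (d : Hyp G p q m n) (M : Subgroup G) [M.Normal] (hodd : Odd (Nat.card M)) :
    M = ⊥ := by
  classical
  by_contra hne
  have hM : ¬ Group.IsSolvable M := fun h => hne (d.solvable_normal_bot M h)
  haveI : Fact (Nat.Prime 2) := ⟨Nat.prime_two⟩
  haveI : Fact p.Prime := ⟨d.hp⟩
  obtain ⟨hqn, hnfull⟩ := d.qn_dvd M hM hodd
  obtain ⟨b, hb⟩ := hqn
  have hcard0 : 0 < q * n := by have := d.hq5; have := d.n_three; positivity
  have hb0 : 0 < b := by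
    rcases Nat.eq_zero_or_pos b with rfl | h
    · have : 0 < Nat.card M := Nat.card_pos
      rw [hb] at this; omega
    · exact h
  have hbodd : Odd b := hodd.of_dvd_nat (hb ▸ dvd_mul_left b (q * n))
  have hbm : 2 * b ≤ m := by
    have h1 : b ∣ 2 * m := by
      refine Nat.dvd_of_mul_dvd_mul_left hcard0 ?_
      rw [← hb, ← d.hcard]; exact Subgroup.card_subgroup_dvd_card M
    have h2 : b ∣ m := (Nat.coprime_two_right.2 hbodd).dvd_of_dvd_mul_left h1
    exact Nat.le_of_dvd (by have := d.m_pos; omega)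
      ((Nat.coprime_two_left.2 hbodd).mul_dvd_of_dvd_of_dvd d.two_dvd_m h2)
  obtain ⟨g, hg⟩ := d.exm
  obtain ⟨hto, hCcard, hgC, -, -⟩ := d.torus_two hg
  set t := g ^ (m / 2) with ht
  have ht2 : t * t = 1 := by rw [← pow_two, ← hto, pow_orderOf_eq_one]
  set C := M ⊓ Subgroup.centralizer ({t} : Set G) with hC
  have hAM : Subgroup.zpowers t ≤ Subgroup.normalizer (M : Set G) := by
    rw [Subgroup.normalizer_eq_top_iff.2 inferInstance]; exact le_top
  have hcop : (Nat.card (Subgroup.zpowers t)).Coprime (Nat.card M) := by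
    rw [Nat.card_zpowers, hto]; exact Nat.coprime_two_left.2 hodd
  have hsolvA : Group.IsSolvable (Subgroup.zpowers t) ∨ Group.IsSolvable M :=
    Or.inl (Group.isSolvable_of_comm fun a b => IsCyclic.commGroup.mul_comm a b)
  have hctr : Subgroup.centralizer (Subgroup.zpowers t : Set G) = Subgroup.centralizer ({t} : Set G) := by
    rw [Subgroup.zpowers_eq_closure, Subgroup.centralizer_closure]
  have hconjI : ∀ {r : ℕ} [Fact r.Prime] {X Y : Subgroup G}, IsSylowIn r X M → IsSylowIn r Y M →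
      Subgroup.zpowers t ≤ Subgroup.normalizer (X : Set G) →
      Subgroup.zpowers t ≤ Subgroup.normalizer (Y : Set G) → ∃ c : C, MulAut.conj (c : G) • X = Y := by
    intro r _ X Y hX hY hXt hYt
    obtain ⟨c, hc, h⟩ := invariant_sylow_conj _ M hAM hcop hsolvA hX hY hXt hYt
    rw [hctr] at hc
    exact ⟨⟨c, hc⟩, h⟩
  have hCb : Nat.card C ∣ b := by
    have h1 : Nat.card C ∣ q * n * b := hb ▸ Subgroup.card_dvd_of_le inf_le_left
    have h2 : Nat.card C ∣ 2 * m := hCcard ▸ Subgroup.card_dvd_of_le inf_le_right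
    refine Nat.Coprime.dvd_of_dvd_mul_left (Nat.coprime_of_dvd fun k hk hk1 hk2 => ?_) h1
    have hkm : k ∣ m := (hk.dvd_mul.1 (hk1.trans h2)).elim
      (fun e => (Nat.prime_dvd_prime_iff_eq hk Nat.prime_two).1 e ▸ d.two_dvd_m) id
    rcases hk.dvd_mul.1 hk2 with h | h
    · exact d.p_not_dvd_m (d.prime_dvd_q hk h ▸ hkm)
    · exact d.not_dvd_both hk hkm h
  -- the elements inverted by `t`
  let I := {x : G // x ∈ M ∧ t * x * t⁻¹ = x⁻¹}
  let f : M → I := fun w => ⟨(w : G)⁻¹ * (t * w * t⁻¹),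
    mul_mem (inv_mem w.2) ((inferInstance : M.Normal).conj_mem _ w.2 t), by
      rw [inv_eq_of_mul_eq_one_right ht2]
      calc t * ((w : G)⁻¹ * (t * w * t)) * t = (t * (w : G)⁻¹ * t) * w * (t * t) := by group
        _ = (t * (w : G)⁻¹ * t) * w := by rw [ht2, mul_one]
        _ = (t⁻¹ * (w : G)⁻¹ * t⁻¹) * w := by rw [inv_eq_of_mul_eq_one_right ht2]
        _ = _ := by group⟩
  have hI : q * n ≤ Nat.card I := by
    have hfib : ∀ w w' : M, f w = f w' → (w : G) * (w' : G)⁻¹ ∈ C := by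
      intro w w' h
      refine Subgroup.mem_inf.2 ⟨mul_mem w.2 (inv_mem w'.2), Subgroup.mem_centralizer_singleton_iff.2 ?_⟩
      have h1 : (w : G)⁻¹ * (t * w * t⁻¹) = (w' : G)⁻¹ * (t * w' * t⁻¹) := congrArg Subtype.val h
      calc (w : G) * (w' : G)⁻¹ * t = w * ((w' : G)⁻¹ * (t * w' * t⁻¹)) * (t * (w' : G)⁻¹) := by group
        _ = w * ((w : G)⁻¹ * (t * w * t⁻¹)) * (t * (w' : G)⁻¹) := by rw [h1]
        _ = t * ((w : G) * (w' : G)⁻¹) := by group
    haveI : Nonempty M := ⟨1⟩
    let g' : M → I × C := fun w => (f w, ⟨(w : G) * ((Function.invFun f (f w) : M) : G)⁻¹,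
      hfib _ _ (Function.invFun_eq ⟨w, rfl⟩).symm⟩)
    have hinj : Function.Injective g' := by
      intro w w' h
      have h1 : f w = f w' := congrArg Prod.fst h
      have h2 : (w : G) * ((Function.invFun f (f w) : M) : G)⁻¹ =
          (w' : G) * ((Function.invFun f (f w') : M) : G)⁻¹ := congrArg (fun z => ((z.2 : C) : G)) h
      rw [h1] at h2
      exact Subtype.ext (mul_right_cancel h2)
    have h := Nat.card_le_card_of_injective g' hinj
    rw [Nat.card_prod, hb] at h
    exact Nat.le_of_mul_le_mul_right (h.trans (Nat.mul_le_mul le_rfl (Nat.le_of_dvd hb0 hCb))) hb0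
  -- invariant Sylow subgroups
  obtain ⟨X, hX, hXt⟩ := exists_invariant_sylow _ M hAM hcop hsolvA p
  obtain ⟨r₀, hr₀, hr₀n⟩ := d.exists_n_prime
  haveI : Fact r₀.Prime := ⟨hr₀⟩
  obtain ⟨Y, hY, hYt⟩ := exists_invariant_sylow _ M hAM hcop hsolvA r₀
  have hXcard : Nat.card X ≤ q := by
    rw [hX.card]
    obtain ⟨e, he⟩ := d.hq
    have h1 : p ^ (Nat.card M).factorization p ∣ q * n * b := hb ▸ Nat.ordProj_dvd _ _
    have h2 : ¬ p ∣ n * b := fun h => by
      rcases d.hp.dvd_mul.1 h with h | h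
      · exact d.p_not_dvd_n h
      · exact d.p_not_dvd_m (h.trans ((Nat.coprime_two_right.2 hbodd).dvd_of_dvd_mul_left (by
          refine Nat.dvd_of_mul_dvd_mul_left hcard0 ?_
          rw [← hb, ← d.hcard]; exact Subgroup.card_subgroup_dvd_card M)))
    rw [mul_assoc] at h1
    exact Nat.le_of_dvd (by have := d.hq5; omega)
      (((d.hp.coprime_iff_not_dvd.2 h2).pow_left _).dvd_of_dvd_mul_right h1)
  have hY1 : Y ≠ ⊥ := fun e => by
    have h := hY.card
    rw [e, Subgroup.card_bot] at h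
    have h' : r₀ ∣ Nat.card M := (hr₀n.mul_left q).trans (hb ▸ dvd_mul_right _ _)
    have : 0 < (Nat.card M).factorization r₀ := hr₀.factorization_pos_of_dvd Nat.card_pos.ne' h'
    exact absurd h (Nat.one_lt_pow this.ne' hr₀.one_lt).ne
  set Z := Subgroup.centralizer (Y : Set G) with hZ
  have hZcard : Nat.card Z ≤ n := by
    obtain ⟨y, hy, hy1⟩ := (Subgroup.bot_or_exists_ne_one Y).resolve_left hY1
    have hyn : orderOf y ∣ n := by
      obtain ⟨i, hi⟩ := IsPGroup.iff_orderOf.1 hY.2.1 ⟨y, hy⟩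
      rw [Subgroup.orderOf_mk] at hi
      rcases i with _ | i
      · exact absurd (orderOf_eq_one_iff.1 (by rw [hi, pow_zero])) hy1
      · exact d.type_n hr₀ (hi ▸ dvd_pow_self r₀ i.succ_ne_zero) hr₀n
    refine Nat.le_of_dvd (by have := d.n_three; omega)
      ((Subgroup.card_dvd_of_le (Subgroup.centralizer_le (Set.singleton_subset_iff.2 hy))).trans
        (d.card_cent_n hy1 hyn))
  -- every inverted element is covered
  have hcover : ∀ x : I, (x : G) ≠ 1 → (∃ c : C, (x : G) ∈ MulAut.conj (c : G) • X) ∨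
      (∃ c : C, (x : G) ∈ MulAut.conj (c : G) • Z) := by
    rintro ⟨x, hxM, hxt⟩ hx1
    change x ≠ 1 at hx1
    change (∃ c : C, x ∈ _) ∨ ∃ c : C, x ∈ _
    have hpowinv : ∀ i : ℤ, t * x ^ i * t⁻¹ = (x ^ i)⁻¹ := fun i => by
      rw [← conj_zpow, hxt, inv_zpow]
    obtain ⟨r, hr, hrd⟩ := Nat.exists_prime_and_dvd (mt orderOf_eq_one_iff.1 hx1)
    haveI : Fact r.Prime := ⟨hr⟩
    have hrM : r ∣ Nat.card M := hrd.trans (M.orderOf_dvd_natCard hxM)
    obtain ⟨y, hy, hyo⟩ := exists_prime_order x hrd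
    have hyM : y ∈ M := Subgroup.zpowers_le.2 hxM hy
    have hyt : t * y * t⁻¹ = y⁻¹ := by obtain ⟨i, rfl⟩ := hy; exact hpowinv i
    have hxnorm : ∀ w, t * w * t⁻¹ = w⁻¹ → Subgroup.zpowers t ≤ Subgroup.normalizer (Subgroup.zpowers w : Set G) :=
      fun w hw => zpowers_le_normalizer_of_conj ht2 fun v hv => by
        obtain ⟨i, rfl⟩ := hv
        exact ⟨-i, by change w ^ (-i) = t * w ^ i * t⁻¹; rw [← conj_zpow, hw, inv_zpow, zpow_neg]⟩
    have hpg : ∀ w : G, orderOf w = r → IsPGroup r (Subgroup.zpowers w) := fun w hw =>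
      IsPGroup.of_card (n := 1) (by rw [Nat.card_zpowers, hw, pow_one])
    rcases d.prime_dvd_card hr (hrM.trans (Subgroup.card_subgroup_dvd_card M)) with rfl | hrm | hrn
    · left
      obtain ⟨X', hX', hX't, hxX'⟩ := exists_invariant_sylow_ge _ M hAM hcop hsolvA
        (Subgroup.zpowers_le.2 hxM) (IsPGroup.of_card (p := r) (n := 1)
          (by rw [Nat.card_zpowers, d.type_p hrd, pow_one])) (hxnorm x hxt)
      obtain ⟨c, hc⟩ := hconjI hX hX' hXt hX't
      exact ⟨c, hc ▸ hxX' (Subgroup.mem_zpowers x)⟩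
    · exfalso
      have hr2 : r ≠ 2 := fun e => Nat.not_even_iff_odd.2 hodd (even_iff_two_dvd.2 (e ▸ hrM))
      obtain ⟨h, hh⟩ := d.exists_conj_mem_torus (Or.inl ⟨hr2, hrm⟩) (a := g) (by rw [if_pos hrm, hg]) hyo
      set v := h * y * h⁻¹ with hv
      have hvM : v ∈ M := (inferInstance : M.Normal).conj_mem _ hyM h
      have hvo : orderOf v = r := ((MulAut.conj h).orderOf_eq y).trans hyo
      have hvt : t * v * t⁻¹ = v := by
        rw [← Subgroup.mem_centralizer_singleton_iff.1 (hgC hh), mul_inv_cancel_right]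
      obtain ⟨X₁, hX₁, hX₁t, hvX₁⟩ := exists_invariant_sylow_ge _ M hAM hcop hsolvA
        (Subgroup.zpowers_le.2 hvM) (hpg v hvo) (zpowers_le_normalizer_of_conj ht2 fun w hw => by
          obtain ⟨i, rfl⟩ := hw
          exact ⟨i, by change v ^ i = t * v ^ i * t⁻¹; rw [← conj_zpow, hvt]⟩)
      obtain ⟨X₂, hX₂, hX₂t, hyX₂⟩ := exists_invariant_sylow_ge _ M hAM hcop hsolvA
        (Subgroup.zpowers_le.2 hyM) (hpg y hyo) (hxnorm y hyt)
      obtain ⟨c, hc⟩ := hconjI hX₁ hX₂ hX₁t hX₂t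
      have hv' : (c : G) * v * (c : G)⁻¹ ∈ X₂ := by
        rw [← hc]
        exact Subgroup.smul_mem_pointwise_smul v (MulAut.conj (c : G)) _ (hvX₁ (Subgroup.mem_zpowers v))
      have heq : Subgroup.zpowers ((c : G) * v * (c : G)⁻¹) = Subgroup.zpowers y :=
        eq_of_card_in_cyclic (d.isCyclic_rgroup (Or.inl ⟨hr2, hrm⟩) hX₂.2.1) (Subgroup.zpowers_le.2 hv')
          hyX₂ (by rw [Nat.card_zpowers, Nat.card_zpowers,
            show orderOf ((c : G) * v * (c : G)⁻¹) = r from ((MulAut.conj (c : G)).orderOf_eq v).trans hvo, hyo])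
      have hyc : y ∈ Subgroup.zpowers ((c : G) * v * (c : G)⁻¹) := heq ▸ Subgroup.mem_zpowers y
      obtain ⟨i, hi⟩ := hyc
      have hct : Commute t ((c : G) * v * (c : G)⁻¹) := by
        have hc' : Commute t (c : G) :=
          (Subgroup.mem_centralizer_singleton_iff.1 (Subgroup.mem_inf.1 c.2).2).symm
        have hv'' : Commute t v := mul_inv_eq_iff_eq_mul.1 hvt
        exact (hc'.mul_right hv'').mul_right hc'.inv_right
      have hyy : t * y * t⁻¹ = y := by
        rw [← hi]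
        change t * _ ^ i * t⁻¹ = _
        rw [(hct.zpow_right i).eq, mul_inv_cancel_right]
      rw [hyy] at hyt
      have h2 : orderOf y ∣ 2 := orderOf_dvd_of_pow_eq_one (by
        rw [pow_two]; nth_rewrite 2 [hyt]; exact mul_inv_cancel y)
      rw [hyo] at h2
      exact hr2 ((Nat.prime_dvd_prime_iff_eq hr Nat.prime_two).1 h2)
    · right
      obtain ⟨a, ha⟩ := d.exn
      obtain ⟨h, hh⟩ := d.exists_conj_mem_torus (Or.inr hrn) (a := a)
        (by rw [if_neg (fun e => d.not_dvd_both hr e hrn), ha]) hyo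
      set a' := h⁻¹ * a * h with ha'
      have hao' : orderOf a' = n := by
        rw [ha', ← ha]
        have := (MulAut.conj h⁻¹).orderOf_eq a
        rwa [MulAut.conj_apply, inv_inv] at this
      have hy' : y ∈ Subgroup.zpowers a' := by
        obtain ⟨i, hi⟩ := hh
        refine ⟨i, ?_⟩
        change a ^ i = h * y * h⁻¹ at hi
        change a' ^ i = y
        have := conj_zpow (a := h⁻¹) (b := a) (i := i)
        rw [inv_inv] at this
        rw [ha', this, hi]; group
      have hy1 : y ≠ 1 := fun e => hr.ne_one (by rw [← hyo, e, orderOf_one])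
      have hx' : x ∈ Subgroup.zpowers a' := by
        rw [← d.cent_eq_n hao' hy' hy1, Subgroup.mem_centralizer_singleton_iff]
        obtain ⟨i, rfl⟩ := hy
        exact ((Commute.refl x).zpow_right i).eq
      have hcx : Subgroup.centralizer ({x} : Set G) = Subgroup.zpowers a' := d.cent_eq_n hao' hx' hx1
      set e := n.factorization r₀ with he
      obtain ⟨w, hw, hwo⟩ : ∃ w ∈ Subgroup.zpowers a', orderOf w = r₀ ^ e :=
        ⟨a' ^ (n / r₀ ^ e), Subgroup.npow_mem_zpowers a' _, by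
          have h1 := orderOf_pow_orderOf_div (orderOf_pos a').ne' (n := r₀ ^ e)
            (by rw [hao']; exact Nat.ordProj_dvd n r₀)
          rwa [hao'] at h1⟩
      have hwM : w ∈ M := Transfer.mem_of_pow_mem (M.pow_index_mem w) (by
        rw [hwo]; exact ((hr₀.coprime_iff_not_dvd).2 (hnfull r₀ hr₀ hr₀n)).pow_left e)
      have hwX : IsSylowIn r₀ (Subgroup.zpowers w) M := by
        refine ⟨Subgroup.zpowers_le.2 hwM, IsPGroup.of_card (by rw [Nat.card_zpowers, hwo]), fun hdv => ?_⟩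
        have h1 : Nat.card (Subgroup.zpowers w) * (Subgroup.zpowers w).relIndex M = Nat.card M :=
          Transfer.card_mul_relIndex (Subgroup.zpowers_le.2 hwM)
        rw [Nat.card_zpowers, hwo] at h1
        have h2 : r₀ ^ (e + 1) ∣ Nat.card G := by
          rw [pow_succ]
          exact (Nat.mul_dvd_mul_left _ hdv).trans (h1 ▸ Subgroup.card_subgroup_dvd_card M)
        rw [he, ← d.factorization_card_n hr₀ hr₀n] at h2
        exact Nat.pow_succ_factorization_not_dvd Nat.card_pos.ne' hr₀ h2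
      have hwt : Subgroup.zpowers t ≤ Subgroup.normalizer (Subgroup.zpowers w : Set G) := by
        refine zpowers_le_normalizer_of_conj ht2 fun v hv => ?_
        obtain ⟨i, rfl⟩ := hv
        have h1 : t * w * t⁻¹ ∈ Subgroup.zpowers a' := by
          rw [← hcx, Subgroup.mem_centralizer_singleton_iff]
          have hwx : Commute w x := by
            rw [← hcx] at hw; exact Subgroup.mem_centralizer_singleton_iff.1 hw
          have h2 := (hwx.map (MulAut.conj t).toMonoidHom)
          change Commute (t * w * t⁻¹) (t * x * t⁻¹) at h2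
          rw [hxt] at h2
          exact h2.inv_right.eq.trans (by rfl) |> fun h => by simpa using h
        have h2 : Subgroup.zpowers (t * w * t⁻¹) = Subgroup.zpowers w :=
          eq_of_card_in_cyclic (A := Subgroup.zpowers a') inferInstance (Subgroup.zpowers_le.2 h1)
            (Subgroup.zpowers_le.2 hw) (by
              rw [Nat.card_zpowers, Nat.card_zpowers]; exact (MulAut.conj t).orderOf_eq w)
        rw [← h2]
        exact ⟨i, by change (t * w * t⁻¹) ^ i = t * w ^ i * t⁻¹; rw [conj_zpow]⟩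
      obtain ⟨c, hc⟩ := hconjI hY hwX hYt hwt
      refine ⟨c, ?_⟩
      have hcomm : ∀ v ∈ Subgroup.zpowers w, v * x = x * v := by
        intro v hv
        have : v ∈ Subgroup.centralizer ({x} : Set G) := hcx ▸ Subgroup.zpowers_le.2 hw hv
        exact Subgroup.mem_centralizer_singleton_iff.1 this
      refine Subgroup.mem_pointwise_smul_iff_inv_smul_mem.2 (Subgroup.mem_centralizer_iff.2 fun v hv => ?_)
      have h1 : (c : G) * v * (c : G)⁻¹ ∈ Subgroup.zpowers w := by
        rw [← hc]; exact Subgroup.smul_mem_pointwise_smul v (MulAut.conj (c : G)) _ hv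
      have h2 := hcomm _ h1
      rw [MulAut.inv_def]
      change v * ((MulAut.conj (c : G)).symm x) = (MulAut.conj (c : G)).symm x * v
      rw [MulAut.conj_symm_apply]
      calc v * ((c : G)⁻¹ * x * c) = (c : G)⁻¹ * ((c : G) * v * (c : G)⁻¹ * x) * c := by group
        _ = (c : G)⁻¹ * (x * ((c : G) * v * (c : G)⁻¹)) * c := by rw [h2]
        _ = (c : G)⁻¹ * x * c * v := by group
  haveI := Fintype.ofFinite C
  haveI := Fintype.ofFinite G
  let SX : Finset G := Finset.univ.biUnion fun c : C =>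
    ((MulAut.conj (c : G) • X : Subgroup G) : Set G).toFinset.erase 1
  let SZ : Finset G := Finset.univ.biUnion fun c : C =>
    ((MulAut.conj (c : G) • Z : Subgroup G) : Set G).toFinset.erase 1
  have hbd : ∀ (W : Subgroup G) (k : ℕ), Nat.card W ≤ k →
      (Finset.univ.biUnion fun c : C =>
        ((MulAut.conj (c : G) • W : Subgroup G) : Set G).toFinset.erase 1).card ≤ b * (k - 1) := by
    intro W k hW
    refine (Finset.card_biUnion_le_card_mul _ _ (k - 1) fun c _ => ?_).trans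
      (Nat.mul_le_mul_right _ ?_)
    · rw [Finset.card_erase_of_mem (Set.mem_toFinset.2 (one_mem _)), Set.toFinset_card, ← Nat.card_eq_fintype_card]
      refine Nat.sub_le_sub_right ?_ 1
      refine le_trans (le_of_eq ?_) hW
      exact Nat.card_congr (Subgroup.equivSMul (MulAut.conj (c : G)) W).symm.toEquiv
    · rw [Finset.card_univ, ← Nat.card_eq_fintype_card]; exact Nat.le_of_dvd hb0 hCb
  have hIle : Nat.card I ≤ 1 + b * (q - 1) + b * (n - 1) := by
    have hsub : (Finset.univ.image (fun x : I => (x : G))) ⊆ {1} ∪ SX ∪ SZ := by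
      intro z hz
      obtain ⟨x, -, rfl⟩ := Finset.mem_image.1 hz
      by_cases hx : (x : G) = 1
      · simp [hx]
      rcases hcover x hx with ⟨c, hc⟩ | ⟨c, hc⟩
      · refine Finset.mem_union_left _ (Finset.mem_union_right _ ?_)
        exact Finset.mem_biUnion.2 ⟨c, Finset.mem_univ c, Finset.mem_erase.2 ⟨hx, Set.mem_toFinset.2 hc⟩⟩
      · exact Finset.mem_union_right _
          (Finset.mem_biUnion.2 ⟨c, Finset.mem_univ c, Finset.mem_erase.2 ⟨hx, Set.mem_toFinset.2 hc⟩⟩)
    have h := Finset.card_le_card hsub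
    rw [Finset.card_image_of_injective _ Subtype.val_injective, Finset.card_univ,
      ← Nat.card_eq_fintype_card] at h
    refine h.trans ((Finset.card_union_le _ _).trans (Nat.add_le_add
      ((Finset.card_union_le _ _).trans (Nat.add_le_add (by simp) (hbd X q hXcard))) (hbd Z n hZcard)))
  have h := hI.trans hIle
  have hm2 := d.m_pos
  have hm4 : q + 1 = 2 * m → 4 ≤ m := fun h => by
    obtain ⟨k, hk⟩ := d.hm; have := d.hq5; omega
  have h1 : 2 * (q * n) ≤ 2 + m * (q - 1) + m * (n - 1) := by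
    have e1 := Nat.mul_le_mul_right (q - 1) hbm
    have e2 := Nat.mul_le_mul_right (n - 1) hbm
    nlinarith
  rcases d.hsize with ⟨e1, e2⟩ | ⟨e1, e2⟩
  · rw [e1, e2, show 2 * m + 1 - 1 = 2 * m by omega, show m + 1 - 1 = m by omega] at h1
    nlinarith
  · have := hm4 e1
    obtain ⟨j, hj⟩ := Nat.exists_eq_add_of_le this
    subst hj
    rw [show q = 2 * j + 7 by omega, show n = j + 3 by omega, show 2 * j + 7 - 1 = 2 * j + 6 by omega,
      show j + 3 - 1 = j + 2 by omega] at h1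
    nlinarith

end Hyp

end Cfsg.Agent.Block.SpecPSL
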