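import Mathlib
import Cfsg.Agent.Lib.Block.SpecPSL.OddNormal
import Cfsg.Agent.Lib.Block.SpecPSL.Dihedral

/-!
The simple normal subgroup has full order at the odd components.
-/

set_option autoImplicit false
set_option linter.unusedSectionVars false

open scoped Pointwise

namespace Cfsg.Agent.Block.SpecPSL

variable {G : Type*} [Group G] [Finite G] {p q m n : ℕ}

namespace Setup

variable {M : Subgroup G} {g s : G} {T : Sylow 2 M}

/-- For a large Sylow subgroup the involution of the torus is the only central involution. -/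
theorem central_eq (D : Setup p q m n M g s T)
    (h3 : 3 ≤ Nat.card (Subgroup.zpowers g ⊓ (T : Subgroup M).map M.subtype : Subgroup G))
    {w : G} (hw : w ∈ (T : Subgroup M).map M.subtype) (hwo : orderOf w = 2)
    (hcen : ∀ a ∈ (T : Subgroup M).map M.subtype, w * a = a * w) : w = inv2 g m := by
  haveI : Fact (Nat.Prime 2) := ⟨Nat.prime_two⟩
  set T' := (T : Subgroup M).map M.subtype with hT'
  by_cases hwg : w ∈ Subgroup.zpowers g
  · exact eq_of_involution_cyclic (B := Subgroup.zpowers g) inferInstance hwg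
      (Subgroup.npow_mem_zpowers g _) hwo D.t_order
  exfalso
  have hcyc : IsCyclic (Subgroup.zpowers g ⊓ T' : Subgroup G) :=
    isCyclic_of_surjective (Subgroup.subgroupOfEquivOfLe (inf_le_left : Subgroup.zpowers g ⊓ T' ≤ _)).toMonoidHom
      (Subgroup.subgroupOfEquivOfLe (inf_le_left : Subgroup.zpowers g ⊓ T' ≤ _)).surjective
  obtain ⟨u, hu⟩ := Subgroup.isCyclic_iff_exists_zpowers_eq_top _ |>.1 hcyc
  have huU : u ∈ Subgroup.zpowers g ⊓ T' := hu ▸ Subgroup.mem_zpowers u
  have hsu : s * u * s⁻¹ = u⁻¹ := D.inverts_two hu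
  have hs2 : s * s = 1 := by rw [← pow_two, ← D.hso, pow_orderOf_eq_one]
  obtain ⟨e, he⟩ : w * s ∈ Subgroup.zpowers u := hu ▸ mul_mem_of_outside D.hidx hw
    (fun h => hwg h.1) D.hs (fun h => D.hsg h.1)
  change u ^ e = w * s at he
  have hwu : u = u⁻¹ :=
    calc u = w * u * w⁻¹ := by rw [hcen u huU.2, mul_inv_cancel_right]
      _ = u ^ e * (s * u * s⁻¹) * (u ^ e)⁻¹ := by
        rw [he, inv_eq_of_mul_eq_one_right hs2]
        calc w * u * w⁻¹ = w * (s * s) * u * (s * s) * w⁻¹ := by rw [hs2, mul_one, mul_one]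
          _ = w * s * (s * u * s) * (s * w⁻¹) := by group
          _ = _ := by rw [mul_inv_rev, inv_eq_of_mul_eq_one_right hs2]
      _ = u⁻¹ := by rw [hsu]; group
  have h2 : orderOf u ∣ 2 := orderOf_dvd_of_pow_eq_one (by
    rw [pow_two]; nth_rewrite 2 [hwu]; rw [mul_inv_cancel])
  have := Nat.le_of_dvd (by norm_num) h2
  rw [← Nat.card_zpowers, hu] at this
  omega

theorem not_dvd_index (D : Setup p q m n M g s T) {r : ℕ} (hr : r.Prime) (hc : r = p ∨ r ∣ n) :
    ¬ r ∣ M.index := by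
  classical
  intro hri
  haveI : Fact (Nat.Prime 2) := ⟨Nat.prime_two⟩
  haveI : Fact r.Prime := ⟨hr⟩
  haveI := D.normal
  haveI := D.simple
  have d := D.hyp
  set T' := (T : Subgroup M).map M.subtype with hT'
  set t := inv2 g m with ht
  have hrm : ¬ r ∣ m := fun h => by
    rcases hc with rfl | h'
    · exact d.p_not_dvd_m h
    · exact d.not_dvd_both hr h h'
  have hr2 : r ≠ 2 := fun e => hrm (e ▸ d.two_dvd_m)
  have hN := T.normalizer_sup_eq_top
  set N := Subgroup.normalizer (T' : Set G) with hNdef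
  obtain ⟨⟨x, hx⟩, hxo⟩ := exists_prime_orderOf_dvd_card' r (index_two_dvd_normalizer M T' hN hri)
  rw [Subgroup.orderOf_mk] at hxo
  have hnc : ∀ (y : G), orderOf y = r → ∀ w : G, orderOf w = 2 → ¬ Commute w y :=
    fun y hy w hw h => hrm ((d.comp_commute Nat.prime_two hr hw hy h).2.1 d.two_dvd_m)
  have hcentt : ∀ a ∈ T', t * a = a * t := fun a ha =>
    (Subgroup.mem_centralizer_singleton_iff.1 (D.hTC ha)).symm
  by_cases h3 : 3 ≤ Nat.card (Subgroup.zpowers g ⊓ T' : Subgroup G)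
  · refine hnc x hxo t D.t_order (mul_inv_eq_iff_eq_mul.1 (D.central_eq h3
      ((Subgroup.mem_normalizer_iff.1 hx t).1 D.hti) (((MulAut.conj x).orderOf_eq t).trans D.t_order)
      fun a ha => ?_)).symm
    have ha' : x⁻¹ * a * x ∈ T' := by
      have := (Subgroup.mem_normalizer_iff.1 (inv_mem hx) a).1 ha
      rwa [inv_inv] at this
    calc x * t * x⁻¹ * a = x * (t * (x⁻¹ * a * x)) * x⁻¹ := by group
      _ = x * ((x⁻¹ * a * x) * t) * x⁻¹ := by rw [hcentt _ ha']
      _ = _ := by group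
  -- the four group
  have hU2 : Nat.card (Subgroup.zpowers g ⊓ T' : Subgroup G) = 2 := by
    have h := Nat.le_of_dvd Nat.card_pos (Subgroup.orderOf_dvd_natCard _
      (Subgroup.mem_inf.2 ⟨Subgroup.npow_mem_zpowers g _, D.hti⟩ : t ∈ Subgroup.zpowers g ⊓ T'))
    rw [D.t_order] at h
    omega
  have hT4 : Nat.card T' = 4 := by
    have h := Subgroup.card_mul_index ((Subgroup.zpowers g ⊓ T').subgroupOf T')
    rw [Nat.card_congr (Subgroup.subgroupOfEquivOfLe inf_le_right).toEquiv, hU2,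
      show ((Subgroup.zpowers g ⊓ T').subgroupOf T').index = 2 from D.hidx] at h
    exact h.symm
  have hexp : ∀ a ∈ T', a = 1 ∨ orderOf a = 2 := by
    intro a ha
    by_cases hag : a ∈ Subgroup.zpowers g
    · have h : orderOf a ∣ 2 := hU2 ▸ Subgroup.orderOf_dvd_natCard _ (Subgroup.mem_inf.2 ⟨hag, ha⟩)
      exact ((Nat.dvd_prime Nat.prime_two).1 h).imp orderOf_eq_one_iff.1 id
    · exact Or.inr (D.outside_order ha hag)
  have hcomm : ∀ a ∈ T', ∀ b ∈ T', a * b = b * a := by
    have hsq : ∀ a ∈ T', a⁻¹ = a := fun a ha => by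
      rcases hexp a ha with rfl | h
      · simp
      · exact inv_eq_of_mul_eq_one_right (by rw [← pow_two, ← h, pow_orderOf_eq_one])
    intro a ha b hb
    calc a * b = (a * b)⁻¹ := (hsq _ (mul_mem ha hb)).symm
      _ = b * a := by rw [mul_inv_rev, hsq a ha, hsq b hb]
  let I := {w : G // orderOf w = 2 ∧ w ∈ T'}
  have hI : Nat.card I ≤ 3 := by
    have h : Nat.card I + 1 ≤ Nat.card T' := by
      rw [← Finite.card_option]
      refine Nat.card_le_card_of_injective (fun o : Option I => o.elim (1 : T') fun w => ⟨w.1, w.2.2⟩) ?_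
      rintro (_ | a) (_ | b) h
      · rfl
      · have h' : (b.1 : G) = 1 := (congrArg Subtype.val h).symm
        have := b.2.1; rw [h', orderOf_one] at this; omega
      · have h' : (a.1 : G) = 1 := congrArg Subtype.val h
        have := a.2.1; rw [h', orderOf_one] at this; omega
      · exact congrArg some (Subtype.ext (congrArg Subtype.val h :))
    omega
  letI : MulAction N I :=
    { smul := fun c w => ⟨(c : G) * w.1 * (c : G)⁻¹, ((MulAut.conj (c : G)).orderOf_eq _).trans w.2.1,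
        (Subgroup.mem_normalizer_iff.1 c.2 w.1).1 w.2.2⟩
      one_smul := fun w => Subtype.ext (by change (1 : G) * w.1 * (1 : G)⁻¹ = _; group)
      mul_smul := fun c c' w => Subtype.ext (by
        change ((c : G) * c') * w.1 * ((c : G) * c')⁻¹ = (c : G) * ((c' : G) * w.1 * (c' : G)⁻¹) * (c : G)⁻¹
        group) }
  let φ := MulAction.toPermHom N I
  have hperm : Nat.card (Equiv.Perm I) ∣ 6 := by
    rw [Nat.card_perm]
    exact (Nat.factorial_dvd_factorial hI).trans (by decide)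
  have hfix : ∀ c : N, φ c = 1 → ∀ w : I, Commute (w.1) (c : G) := fun c hc w =>
    (mul_inv_eq_iff_eq_mul.1 (congrArg Subtype.val (Equiv.Perm.ext_iff.1 hc w) :)).symm
  let tI : I := ⟨t, D.t_order, D.hti⟩
  have hker : ¬ r ∣ Nat.card φ.ker := by
    intro h
    obtain ⟨⟨c, hc⟩, hco⟩ := exists_prime_orderOf_dvd_card' r h
    rw [Subgroup.orderOf_mk, ← Subgroup.orderOf_coe] at hco
    exact hnc _ hco t D.t_order (hfix c (MonoidHom.mem_ker.1 hc) tI)
  obtain rfl : r = 3 := by
    have h : orderOf (φ ⟨x, hx⟩) = r := by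
      have h1 : orderOf (φ ⟨x, hx⟩) ∣ r := by
        simpa [Subgroup.orderOf_mk, hxo] using orderOf_map_dvd φ (⟨x, hx⟩ : N)
      exact ((Nat.dvd_prime hr).1 h1).resolve_left fun e =>
        hnc x hxo t D.t_order (hfix ⟨x, hx⟩ (orderOf_eq_one_iff.1 e) tI)
    have h6 : r ∣ 6 := (h ▸ orderOf_dvd_natCard (φ ⟨x, hx⟩)).trans hperm
    rcases hr.dvd_mul.1 (show r ∣ 2 * 3 from h6) with e | e
    · exact absurd ((Nat.prime_dvd_prime_iff_eq hr Nat.prime_two).1 e) hr2
    · exact (Nat.prime_dvd_prime_iff_eq hr Nat.prime_three).1 e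
  -- the normalizer inside `M`
  set NM := Subgroup.normalizer ((T : Subgroup M) : Set M) with hNM
  let ι : NM →* N := (M.subtype.comp NM.subtype).codRestrict N fun c =>
    Subgroup.le_normalizer_map M.subtype (Subgroup.mem_map_of_mem M.subtype c.2)
  let ψ := φ.comp ι
  have hTN : (T : Subgroup M) ≤ NM := Subgroup.le_normalizer
  have hψodd : Nat.card ψ.range ∣ (T : Subgroup M).index := by
    have hle : (T : Subgroup M).subgroupOf NM ≤ ψ.ker := by
      intro c hc
      refine MonoidHom.mem_ker.2 (Equiv.ext fun w => Subtype.ext ?_)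
      change ((c : M) : G) * w.1 * ((c : M) : G)⁻¹ = w.1
      exact mul_inv_eq_iff_eq_mul.2 (hcomm _ ⟨_, hc, rfl⟩ _ w.2.2)
    rw [← Subgroup.index_ker]
    refine (Subgroup.index_dvd_of_le hle).trans ?_
    rw [← Subgroup.relIndex_mul_index hTN]
    exact dvd_mul_right _ _
  have hψne : Nat.card ψ.range ≠ 1 := by
    intro h1
    haveI : IsMulCommutative (T : Subgroup M) := ⟨⟨fun a b => Subtype.ext (Subtype.ext
      (hcomm _ ⟨_, a.2, rfl⟩ _ ⟨_, b.2, rfl⟩))⟩⟩
    obtain ⟨h, hhM, hh⟩ := D.conj_t (Subgroup.map_subtype_le _ D.hs) D.hso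
    obtain ⟨⟨sM, hsM⟩, hsT, rfl⟩ : s ∈ (T : Subgroup M).map M.subtype := D.hs
    have htM : (⟨h, hhM⟩ : M) * ⟨sM, hsM⟩ * (⟨h, hhM⟩ : M)⁻¹ ∈ (T : Subgroup M) := by
      obtain ⟨y, hy, hye⟩ := D.hti
      rwa [show (⟨h, hhM⟩ : M) * ⟨sM, hsM⟩ * (⟨h, hhM⟩ : M)⁻¹ = y from Subtype.ext (hh.trans hye.symm)]
    obtain ⟨c, hc, hce⟩ := T.conj_eq_normalizer_conj_of_mem ⟨sM, hsM⟩ (⟨h, hhM⟩ : M)⁻¹ hsT
      (by rwa [inv_inv])
    rw [inv_inv] at hce
    have h2 : ψ ⟨c⁻¹, inv_mem hc⟩ = 1 := by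
      have : ψ ⟨c⁻¹, inv_mem hc⟩ ∈ ψ.range := ⟨_, rfl⟩
      rwa [Subgroup.eq_bot_of_card_eq _ h1, Subgroup.mem_bot] at this
    have h3 := congrArg Subtype.val (Equiv.Perm.ext_iff.1 h2 ⟨sM, D.hso, D.hs⟩)
    change ((c⁻¹ : M) : G) * sM * ((c⁻¹ : M) : G)⁻¹ = sM at h3
    have h4 := congrArg Subtype.val hce
    push_cast at h4 h3
    rw [inv_inv] at h3
    rw [h3] at h4
    exact D.hsg (by
      change (sM : G) ∈ _
      rw [← h4, show h * sM * h⁻¹ = t from hh]
      exact Subgroup.npow_mem_zpowers g _)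
  have h3M : 3 ∣ Nat.card (N ⊓ M : Subgroup G) := by
    have h6 : Nat.card ψ.range ∣ 6 := (Subgroup.card_subgroup_dvd_card _).trans hperm
    have hodd : ¬ 2 ∣ Nat.card ψ.range := fun h => T.not_dvd_index (h.trans hψodd)
    have h3 : 3 ∣ Nat.card ψ.range := by
      have hle := Nat.le_of_dvd (by norm_num) h6
      interval_cases (Nat.card ψ.range) <;> omega
    refine (h3.trans (Subgroup.card_range_dvd ψ)).trans ?_
    have hle : NM.map M.subtype ≤ N ⊓ M :=
      le_inf (Subgroup.le_normalizer_map M.subtype) (Subgroup.map_subtype_le _)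
    rw [Nat.card_congr (NM.equivMapOfInjective M.subtype M.subtype_injective).toEquiv]
    exact Subgroup.card_dvd_of_le hle
  have h9 : 9 ∣ Nat.card N := by
    have h := Subgroup.card_mul_index ((N ⊓ M).subgroupOf N)
    rw [Nat.card_congr (Subgroup.subgroupOfEquivOfLe inf_le_left).toEquiv,
      show ((N ⊓ M).subgroupOf N).index = M.index from by
        change (N ⊓ M).relIndex N = _
        rw [inf_comm, Subgroup.inf_relIndex_right, ← Subgroup.relIndex_sup_right, hN,
          Subgroup.relIndex_top_right]] at h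
    rw [← h]; exact mul_dvd_mul h3M hri
  refine hker ?_
  have h := Subgroup.card_mul_index φ.ker
  rw [Subgroup.index_ker] at h
  have hdvd : 9 ∣ Nat.card φ.ker * 6 := by
    refine h9.trans ?_
    rw [← h]; exact Nat.mul_dvd_mul_left _ ((Subgroup.card_subgroup_dvd_card _).trans hperm)
  omega

theorem qn_dvd_simple (D : Setup p q m n M g s T) : q * n ∣ Nat.card M := by
  have d := D.hyp
  refine Nat.Coprime.dvd_of_dvd_mul_right (k := q * n) (n := M.index) ?_ ?_
  · refine Nat.coprime_of_dvd fun k hk h1 h2 => ?_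
    rcases hk.dvd_mul.1 h1 with h | h
    · exact D.not_dvd_index hk (Or.inl (d.prime_dvd_q hk h)) h2
    · exact D.not_dvd_index hk (Or.inr h) h2
  · rw [M.card_mul_index, d.hcard]; exact dvd_mul_right _ _

end Setup

end Cfsg.Agent.Block.SpecPSL
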