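import Mathlib
import Cfsg.Prelude
import Cfsg.Agent.Lib.Grp.Cores
import Cfsg.Agent.Lib.Block.SpecPSL.OddNormal

/-!
A minimal normal subgroup is simple.
-/

set_option autoImplicit false
set_option linter.unusedSectionVars false

open scoped Pointwise

namespace Cfsg.Agent.Block.SpecPSL

variable {G : Type*} [Group G] [Finite G] {p q m n : ℕ}

theorem Hyp.exists_simple (d : Hyp G p q m n) :
    ∃ M : Subgroup G, M.Normal ∧ IsSimpleGroup M ∧ (¬ ∀ a b : M, a * b = b * a) ∧ 2 ∣ Nat.card M := by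
  classical
  haveI : Nontrivial G := by
    obtain ⟨t, ht⟩ := d.exists_involution
    exact nontrivial_of_ne t 1 fun e => by rw [e, orderOf_one] at ht; omega
  obtain ⟨M, ⟨hMn, hM1⟩, hMmin⟩ := (Set.toFinite {M : Subgroup G | M.Normal ∧ M ≠ ⊥}).exists_minimal
    ⟨⊤, inferInstance, top_ne_bot⟩
  haveI := hMn
  have hsolv : ¬ Group.IsSolvable M := fun h => hM1 (d.solvable_normal_bot M h)
  have heven : 2 ∣ Nat.card M := by
    by_contra h
    exact hM1 (d.odd_normal_bot M (Nat.not_even_iff_odd.1 fun e => h e.two_dvd))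
  have hnab : ¬ ∀ a b : M, a * b = b * a := fun h => hsolv (Group.isSolvable_of_comm h)
  refine ⟨M, hMn, ?_, hnab, heven⟩
  haveI : Nontrivial M := (Subgroup.nontrivial_iff_ne_bot M).2 hM1
  -- minimal `M`-invariant subgroups
  obtain ⟨L, ⟨hLM, hL1, hLn⟩, hLmin⟩ := (Set.toFinite
    {L : Subgroup G | L ≤ M ∧ L ≠ ⊥ ∧ M ≤ Subgroup.normalizer (L : Set G)}).exists_minimal
    ⟨M, le_rfl, hM1, Subgroup.le_normalizer⟩
  by_cases hLeq : L = M
  · refine { eq_bot_or_eq_top_of_normal := fun N hN => ?_ }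
    by_cases hN1 : N = ⊥
    · exact Or.inl hN1
    refine Or.inr ?_
    have hle : N.map M.subtype ≤ M := Subgroup.map_subtype_le _
    have hmem : N.map M.subtype ∈ {L : Subgroup G | L ≤ M ∧ L ≠ ⊥ ∧ M ≤ Subgroup.normalizer (L : Set G)} := by
      refine ⟨hle, fun e => hN1 ((Subgroup.map_eq_bot_iff_of_injective _ M.subtype_injective).1 e), ?_⟩
      refine (Subgroup.normal_subgroupOf_iff_le_normalizer hle).1 ?_
      rw [Subgroup.subgroupOf, Subgroup.comap_map_eq_self_of_injective M.subtype_injective]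
      exact hN
    have h := hLmin hmem (hLeq.symm ▸ hle)
    rw [hLeq] at h
    exact Subgroup.map_injective M.subtype_injective
      ((le_antisymm hle h).trans (by rw [← MonoidHom.range_eq_map, Subgroup.range_subtype]))
  exfalso
  haveI hLnM : (L.subgroupOf M).Normal := (Subgroup.normal_subgroupOf_iff_le_normalizer hLM).2 hLn
  haveI : Fact (Nat.Prime 2) := ⟨Nat.prime_two⟩
  have hLne : L.subgroupOf M ≠ ⊥ := fun h => hL1 (by
    rw [Subgroup.subgroupOf_eq_bot, disjoint_iff, inf_eq_left.2 hLM] at h; exact h)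
  -- `L` has even order and is not a two-group
  have hLeven : 2 ∣ Nat.card L := by
    by_contra h
    have hle : L.subgroupOf M ≤ Cfsg.pPrimeCore 2 M := Grp.le_pPrimeCore hLnM (by
      rw [Nat.card_congr (Subgroup.subgroupOfEquivOfLe hLM).toEquiv]
      exact Nat.coprime_two_right.2 (Nat.not_even_iff_odd.1 fun e => h e.two_dvd))
    haveI : ((Cfsg.pPrimeCore 2 M).map M.subtype).Normal := ConjAct.normal_of_characteristic_of_normal
    have hbot := d.odd_normal_bot ((Cfsg.pPrimeCore 2 M).map M.subtype) (by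
      rw [Subgroup.card_map_of_injective M.subtype_injective]
      exact Nat.coprime_two_right.1 Grp.pPrimeCore_coprime)
    rw [Subgroup.map_eq_bot_iff_of_injective _ M.subtype_injective] at hbot
    exact hLne (le_bot_iff.1 (hbot ▸ hle))
  obtain ⟨r, hr, hr2, hrL⟩ : ∃ r : ℕ, r.Prime ∧ r ≠ 2 ∧ r ∣ Nat.card L := by
    by_contra hno
    push Not at hno
    have hp2 : IsPGroup 2 L := by
      refine IsPGroup.of_card (Nat.eq_prime_pow_of_unique_prime_dvd (p := 2) Nat.card_pos.ne' ?_)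
      intro r h1 h2
      by_contra h3
      exact hno r h1 h3 h2
    have hle : L.subgroupOf M ≤ Cfsg.pCore 2 M := Grp.le_pCore hLnM
      (hp2.of_equiv (Subgroup.subgroupOfEquivOfLe hLM).symm)
    haveI : ((Cfsg.pCore 2 M).map M.subtype).Normal := ConjAct.normal_of_characteristic_of_normal
    have hbot := d.solvable_normal_bot ((Cfsg.pCore 2 M).map M.subtype) (by
      haveI := ((Grp.pCore_isPGroup (p := 2) (G := M)).map M.subtype).isNilpotent
      infer_instance)
    rw [Subgroup.map_eq_bot_iff_of_injective _ M.subtype_injective] at hbot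
    exact hLne (le_bot_iff.1 (hbot ▸ hle))
  obtain ⟨g, hg⟩ : ∃ g : G, MulAut.conj g • L ≠ L := by
    by_contra hno
    push Not at hno
    have : L.Normal := ⟨fun x hx g => by
      have := Subgroup.smul_mem_pointwise_smul x (MulAut.conj g) L hx
      rwa [hno g] at this⟩
    exact hLeq (le_antisymm hLM (hMmin ⟨this, hL1⟩ hLM))
  set L' := MulAut.conj g • L with hL'
  have hL'M : L' ≤ M := by
    rintro _ ⟨x, hx, rfl⟩
    exact hMn.conj_mem x (hLM hx) g
  have hL'n : M ≤ Subgroup.normalizer (L' : Set G) := by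
    intro w hw
    have hw' : g⁻¹ * w * g ∈ M := by simpa using hMn.conj_mem w hw g⁻¹
    rw [Subgroup.mem_normalizer_iff]
    intro x
    have h := Subgroup.mem_normalizer_iff.1 (hLn hw') (g⁻¹ * x * g)
    rw [hL', Subgroup.mem_pointwise_smul_iff_inv_smul_mem, Subgroup.mem_pointwise_smul_iff_inv_smul_mem]
    simp only [MulAut.inv_def, MulAut.smul_def, MulAut.conj_symm_apply]
    convert h using 2
    group
  have hinf : L ⊓ L' = ⊥ := by
    by_contra h
    have hmem : L ⊓ L' ∈ {L : Subgroup G | L ≤ M ∧ L ≠ ⊥ ∧ M ≤ Subgroup.normalizer (L : Set G)} :=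
      ⟨inf_le_left.trans hLM, h, fun w hw => Subgroup.mem_normalizer_iff.2 fun x => by
        rw [Subgroup.mem_inf, Subgroup.mem_inf, Subgroup.mem_normalizer_iff.1 (hLn hw) x,
          Subgroup.mem_normalizer_iff.1 (hL'n hw) x]⟩
    have h1 : L ≤ L' := (hLmin hmem inf_le_left).trans inf_le_right
    refine hg (Subgroup.eq_of_le_of_card_ge h1 (le_of_eq ?_)).symm
    exact Nat.card_congr (Subgroup.equivSMul (MulAut.conj g) L).symm.toEquiv
  have hcomm : ∀ a ∈ L, ∀ b ∈ L', Commute a b := by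
    intro a ha b hb
    have h1 : a * b * a⁻¹ * b⁻¹ ∈ L := by
      rw [show a * b * a⁻¹ * b⁻¹ = a * (b * a⁻¹ * b⁻¹) by group]
      exact mul_mem ha ((Subgroup.mem_normalizer_iff.1 (hLn (hL'M hb)) _).1 (inv_mem ha))
    have h2 : a * b * a⁻¹ * b⁻¹ ∈ L' :=
      mul_mem ((Subgroup.mem_normalizer_iff.1 (hL'n (hLM ha)) _).1 hb) (inv_mem hb)
    have h3 : a * b * a⁻¹ * b⁻¹ ∈ L ⊓ L' := ⟨h1, h2⟩
    rw [hinf, Subgroup.mem_bot] at h3
    exact mul_inv_eq_iff_eq_mul.1 (mul_inv_eq_one.1 h3)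
  haveI : Fact r.Prime := ⟨hr⟩
  obtain ⟨⟨x, hx⟩, hxo⟩ := exists_prime_orderOf_dvd_card' r hrL
  obtain ⟨⟨v, hv⟩, hvo⟩ := exists_prime_orderOf_dvd_card' 2 hLeven
  rw [Subgroup.orderOf_mk] at hxo hvo
  have hmap : ∀ w ∈ L, g * w * g⁻¹ ∈ L' := fun w hw => Subgroup.smul_mem_pointwise_smul w (MulAut.conj g) L hw
  have hrm : r ∣ m := (d.comp_commute Nat.prime_two hr
    (((MulAut.conj g).orderOf_eq v).trans hvo) hxo (hcomm x hx _ (hmap v hv)).symm).2.1 d.two_dvd_m
  set x' := g * x * g⁻¹ with hx'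
  have hx'o : orderOf x' = r := ((MulAut.conj g).orderOf_eq x).trans hxo
  have hK : IsPGroup r (Subgroup.zpowers x ⊔ Subgroup.zpowers x' : Subgroup G) := by
    refine IsPGroup.to_sup_of_normal_right' (IsPGroup.of_card (n := 1) (by rw [Nat.card_zpowers, hxo, pow_one]))
      (IsPGroup.of_card (n := 1) (by rw [Nat.card_zpowers, hx'o, pow_one])) ?_
    rw [Subgroup.zpowers_le]
    refine Subgroup.centralizer_le_normalizer _ (Subgroup.mem_centralizer_iff.2 ?_)
    rintro _ ⟨i, rfl⟩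
    exact ((hcomm x hx x' (hmap x hx)).zpow_right i).eq.symm
  have heq := eq_of_card_in_cyclic (d.isCyclic_rgroup (Or.inl ⟨hr2, hrm⟩) hK)
    (le_sup_left : Subgroup.zpowers x ≤ _) le_sup_right (by rw [Nat.card_zpowers, Nat.card_zpowers, hxo, hx'o])
  have hxi : x ∈ L ⊓ L' := ⟨hx, Subgroup.zpowers_le.2 (hmap x hx) (heq ▸ Subgroup.mem_zpowers x)⟩
  rw [hinf, Subgroup.mem_bot] at hxi
  rw [hxi, orderOf_one] at hxo
  exact hr.ne_one hxo.symm

end Cfsg.Agent.Block.SpecPSL
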