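import Mathlib
import Cfsg.Agent.S2475
import Cfsg.Agent.Lib.Fus.PSLTwo
import Cfsg.Agent.Lib.Block.Zas.FieldCongr
import Cfsg.Agent.Lib.Block.SpecPSL.MinNormal
import Cfsg.Agent.Lib.Block.SpecPSL.Full

/-!
Identification of the group in odd characteristic.
-/

set_option autoImplicit false
set_option linter.unusedSectionVars false

namespace Cfsg.Agent.Block.SpecPSL

/-- Order and element orders of `PSL(2, F)` for a field of odd order. -/
theorem psl_data {F : Type*} [Field F] [Fintype F] (p : ℕ) [Fact p.Prime] [CharP F p]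
    (hodd : Odd (Fintype.card F)) (h4 : 4 ≤ Fintype.card F) :
    ∃ a : ℕ, Fintype.card F = 2 * a + 1 ∧
      Nat.card (Matrix.ProjectiveSpecialLinearGroup (Fin 2) F) = Fintype.card F * a * (a + 1) * 2 ∧
      Set.range (orderOf : Matrix.ProjectiveSpecialLinearGroup (Fin 2) F → ℕ) =
        {l : ℕ | l ∣ p ∨ l ∣ a ∨ l ∣ a + 1} := by
  obtain ⟨a, ha⟩ := hodd
  refine ⟨a, ha, ?_, ?_⟩
  · have h := Classical.natCard_PSL_mul (F := F) 2 (by norm_num)
    rw [Classical.natCard_units_field, Fus.PSLTwo.natCard_SL_two, ha,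
      show 2 * a + 1 - 1 = 2 * a by omega, Nat.gcd_mul_right_right] at h
    rw [ha]
    linarith
  · rw [Cfsg.Agent.S2475.result p h4, ha, show 2 * a + 1 - 1 = 2 * a by omega, Nat.gcd_mul_right_right,
      show 2 * a / 2 = a by omega, show (2 * a + 1 + 1) / 2 = a + 1 by omega]

theorem psl_congr {K : Type*} [Field K] [Fintype K] {F : Type*} [Field F] [Fintype F]
    (h : Fintype.card K = Fintype.card F) :
    Nonempty (Matrix.ProjectiveSpecialLinearGroup (Fin 2) K ≃*
      Matrix.ProjectiveSpecialLinearGroup (Fin 2) F) := by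
  let e : K ≃+* F := FiniteField.ringEquivOfCardEq h
  exact Zas.nonempty_quotient_center_congr (MonoidHom.toMulEquiv
    (Matrix.SpecialLinearGroup.map (n := Fin 2) (e : K →+* F))
    (Matrix.SpecialLinearGroup.map (n := Fin 2) (e.symm : F →+* K))
    (MonoidHom.ext fun g => by ext i j; exact e.symm_apply_apply _)
    (MonoidHom.ext fun g => by ext i j; exact e.apply_symm_apply _))

variable {G : Type*} [Group G] [Finite G] {p q m n : ℕ}

theorem Hyp.q_coprime (d : Hyp G p q m n) : q.Coprime (n * (2 * m)) :=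
  Nat.coprime_of_dvd fun k hk h1 h2 => by
    have hkp := d.prime_dvd_q hk h1
    rcases hk.dvd_mul.1 h2 with h | h
    · exact d.p_not_dvd_n (hkp ▸ h)
    · rcases hk.dvd_mul.1 h with h | h
      · exact d.hp2 (hkp.symm.trans ((Nat.prime_dvd_prime_iff_eq hk Nat.prime_two).1 h))
      · exact d.p_not_dvd_m (hkp ▸ h)

theorem Hyp.iso_psl_odd (d : Hyp G p q m n) :
    ∃ (K : Type) (_ : Field K) (_ : Fintype K), Fintype.card K = q ∧
      Nonempty (G ≃* Matrix.ProjectiveSpecialLinearGroup (Fin 2) K) := by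
  classical
  obtain ⟨M, hMn, hMs, hnab, heven⟩ := d.exists_simple
  obtain ⟨g, s, T, D⟩ := d.exists_setup M hnab heven
  have hqn := D.qn_dvd_simple
  obtain ⟨K, iK, iK', hKodd, ⟨eM⟩⟩ := D.iso_psl
  refine ⟨K, iK, iK', ?_⟩
  obtain ⟨p', hchar⟩ := CharP.exists K
  haveI := hchar
  obtain ⟨f, hp', hK⟩ := FiniteField.card K p'
  haveI : Fact p'.Prime := ⟨hp'⟩
  have hMG : Nat.card M ∣ Nat.card G := Subgroup.card_subgroup_dvd_card M
  have hcardM := Nat.card_congr eM.toEquiv
  -- the field has more than three elements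
  have h4 : 4 ≤ Fintype.card K := by
    have h2 := Fintype.one_lt_card (α := K)
    obtain ⟨a, ha⟩ := hKodd
    by_contra h
    have h3 : Fintype.card K = 3 := by omega
    have h := Classical.natCard_PSL_mul (F := K) 2 (by norm_num)
    rw [Classical.natCard_units_field, Fus.PSLTwo.natCard_SL_two, h3] at h
    norm_num at h
    have hb := Nat.le_of_dvd Nat.card_pos hqn
    rw [hcardM] at hb
    have hq15 := Nat.mul_le_mul d.hq5 d.n_three
    rw [Nat.card_eq_fintype_card] at hb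
    omega
  obtain ⟨a, ha, hcard, hspec⟩ := psl_data p' hKodd h4
  rw [← hcardM] at hcard
  have hreal : ∀ l : ℕ, (l ∣ p' ∨ l ∣ a ∨ l ∣ a + 1) → l ∣ p ∨ l ∣ m ∨ l ∣ n := by
    intro l hl
    obtain ⟨x, hx⟩ : l ∈ Set.range (orderOf : Matrix.ProjectiveSpecialLinearGroup (Fin 2) K → ℕ) := by
      rw [hspec]; exact hl
    rw [← hx, ← eM.symm.orderOf_eq, ← Subgroup.orderOf_coe]
    exact d.spec _
  have hmem : ∀ x : G, (orderOf x).Coprime M.index → orderOf x ∣ p' ∨ orderOf x ∣ a ∨ orderOf x ∣ a + 1 := by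
    intro x hx
    have hxM : x ∈ M := Transfer.mem_of_pow_mem (M.pow_index_mem x) hx
    have h : orderOf (⟨x, hxM⟩ : M) ∈
        Set.range (orderOf : Matrix.ProjectiveSpecialLinearGroup (Fin 2) K → ℕ) := ⟨_, eM.orderOf_eq _⟩
    rw [hspec, Subgroup.orderOf_mk] at h
    exact h
  have hidx : ∀ {l : ℕ}, l ∣ q * n → l.Coprime M.index := fun {l} hl =>
    Nat.coprime_of_dvd fun k hk h1 h2 => by
      rcases hk.dvd_mul.1 (h1.trans hl) with h | h
      · exact D.not_dvd_index hk (Or.inl (d.prime_dvd_q hk h)) h2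
      · exact D.not_dvd_index hk (Or.inr h) h2
  have hpd : p ∣ p' ∨ p ∣ a ∨ p ∣ a + 1 := by
    obtain ⟨x, hx⟩ := d.exp
    exact hx ▸ hmem x (hx ▸ hidx (d.p_dvd_q.mul_right n))
  have hnd : n ∣ p' ∨ n ∣ a ∨ n ∣ a + 1 := by
    obtain ⟨x, hx⟩ := d.exn
    exact hx ▸ hmem x (hx ▸ hidx (dvd_mul_left n q))
  have hpn : p ≠ n := fun e => d.p_not_dvd_n (e ▸ dvd_rfl)
  have hq1 : q ∣ Fintype.card K * a * (a + 1) * 2 := hcard ▸ (dvd_mul_right q n).trans hqn
  have hK' : Fintype.card K ∣ q * (n * (2 * m)) := by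
    rw [← mul_assoc, ← d.hcard]
    refine Dvd.dvd.trans ?_ hMG
    rw [hcard, mul_assoc, mul_assoc]; exact dvd_mul_right _ _
  have hqp : ∀ {l : ℕ}, ¬ p ∣ l → q.Coprime l := fun {l} hl =>
    Nat.coprime_of_dvd fun k hk h1 h2 => hl (d.prime_dvd_q hk h1 ▸ h2)
  have hp2 : ¬ p ∣ 2 := fun h => d.hp2 ((Nat.prime_dvd_prime_iff_eq d.hp Nat.prime_two).1 h)
  have hKq : Fintype.card K = q := by
    by_cases hpp : p' = p
    · subst hpp
      have hpK : p' ∣ 2 * a + 1 := by rw [← ha, hK]; exact dvd_pow_self _ f.pos.ne'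
      have h1 : ¬ p' ∣ a := fun h => d.hp.ne_one (Nat.dvd_one.1 ((Nat.dvd_add_right (h.mul_left 2)).1 hpK))
      have h2 : ¬ p' ∣ a + 1 := fun h => d.hp.ne_one (Nat.dvd_one.1 ((Nat.dvd_add_right hpK).1
        (by rw [show 2 * a + 1 + 1 = 2 * (a + 1) by ring]; exact h.mul_left 2)))
      refine Nat.dvd_antisymm ?_
        ((hqp h1).dvd_of_dvd_mul_right ((hqp h2).dvd_of_dvd_mul_right ((hqp hp2).dvd_of_dvd_mul_right hq1))
          |>.trans dvd_rfl)
      refine Nat.Coprime.dvd_of_dvd_mul_right ?_ hK'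
      rw [hK]
      refine Nat.Coprime.pow_left _ (d.hp.coprime_iff_not_dvd.2 fun h => ?_)
      rcases d.hp.dvd_mul.1 h with h | h
      · exact d.p_not_dvd_n h
      · exact (d.hp.dvd_mul.1 h).elim hp2 d.p_not_dvd_m
    exfalso
    have hpK : ¬ p ∣ Fintype.card K := fun h => hpp (by
      rw [hK] at h; exact ((Nat.prime_dvd_prime_iff_eq d.hp hp').1 (d.hp.dvd_of_dvd_pow h)).symm)
    -- one torus has order `p`
    obtain ⟨b, c, hbc, hb, hpc, hq⟩ : ∃ b c : ℕ, (c = a ∧ b = a + 1 ∨ c = a + 1 ∧ b = a) ∧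
        c = p ∧ ¬ p ∣ b ∧ q ∣ c := by
      have key : ∀ c : ℕ, p ∣ c → (c ∣ p' ∨ c ∣ a ∨ c ∣ a + 1) → c = p := by
        intro c hc hc'
        rcases hreal c hc' with h | h | h
        · exact Nat.dvd_antisymm h hc
        · exact absurd (hc.trans h) d.p_not_dvd_m
        · exact absurd (hc.trans h) d.p_not_dvd_n
      rcases hpd with h | h | h
      · exact absurd ((Nat.prime_dvd_prime_iff_eq d.hp hp').1 h).symm hpp
      · have h2 : ¬ p ∣ a + 1 := fun h' => d.hp.ne_one (Nat.dvd_one.1 ((Nat.dvd_add_right h).1 h'))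
        exact ⟨a + 1, a, Or.inl ⟨rfl, rfl⟩, key a h (Or.inr (Or.inl dvd_rfl)), h2,
          (hqp hpK).dvd_of_dvd_mul_left ((hqp h2).dvd_of_dvd_mul_right ((hqp hp2).dvd_of_dvd_mul_right hq1))⟩
      · have h2 : ¬ p ∣ a := fun h' => d.hp.ne_one (Nat.dvd_one.1 ((Nat.dvd_add_right h').1 h))
        refine ⟨a, a + 1, Or.inr ⟨rfl, rfl⟩, key (a + 1) h (Or.inr (Or.inr dvd_rfl)), h2, ?_⟩
        exact (hqp fun h' => (d.hp.dvd_mul.1 h').elim hpK h2).dvd_of_dvd_mul_left
          ((hqp hp2).dvd_of_dvd_mul_right hq1)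
    have hqp' : q = p := Nat.dvd_antisymm (hb ▸ hq) d.p_dvd_q
    have hn3 := d.n_three
    rcases hnd with h | h
    · have hnp : n = p' := ((Nat.dvd_prime hp').1 h).resolve_left (by omega)
      have h5 : Fintype.card K ∣ n := by
        have hK2 := (Nat.Coprime.dvd_of_dvd_mul_left (hqp hpK).symm hK')
        refine Nat.Coprime.dvd_of_dvd_mul_right ?_ hK2
        rw [hK, ← hnp]
        refine Nat.Coprime.pow_left _ (Nat.Coprime.mul_right d.n_odd.coprime_two_right d.cop_mn.symm)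
      have h6 : Fintype.card K = n :=
        Nat.dvd_antisymm h5 (by rw [hK, ← hnp]; exact dvd_pow_self _ f.pos.ne')
      rcases d.hsize with ⟨e1, e2⟩ | ⟨e1, e2⟩ <;> omega
    · have key : ∀ c : ℕ, n ∣ c → (c ∣ p' ∨ c ∣ a ∨ c ∣ a + 1) → c = n := by
        intro c hc hc'
        rcases hreal c hc' with h | h | h
        · exact absurd (((Nat.dvd_prime d.hp).1 (hc.trans h)).resolve_left (by omega)).symm hpn
        · exact absurd (Nat.eq_one_of_dvd_coprimes d.cop_mn (hc.trans h) dvd_rfl) (by omega)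
        · exact Nat.dvd_antisymm h hc
      obtain ⟨o1, ho1⟩ := d.hp.odd_of_ne_two d.hp2
      obtain ⟨o2, ho2⟩ := d.n_odd
      rcases h with h | h
      · have := key a h (Or.inr (Or.inl dvd_rfl)); omega
      · have := key (a + 1) h (Or.inr (Or.inr dvd_rfl)); omega
  refine ⟨hKq, ⟨?_⟩⟩
  have hMtop : M = ⊤ := by
    refine M.eq_top_of_card_eq ?_
    rw [hcard, d.hcard]
    rcases d.hsize with ⟨e1, e2⟩ | ⟨e1, e2⟩
    · rw [show Fintype.card K = q from hKq, show a = m by omega, show m + 1 = n by omega]; ring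
    · rw [show Fintype.card K = q from hKq, show a = n by omega, show n + 1 = m by omega]; ring
  exact (Subgroup.topEquiv.symm.trans (MulEquiv.subgroupCongr hMtop.symm)).trans eM

end Cfsg.Agent.Block.SpecPSL
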